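import Cfsg.Agent.Lib.ThIndex.Index
import Cfsg.Prelude.Def_Sporadic
import Mathlib.GroupTheory.GroupAction.Blocks
import Mathlib.Combinatorics.Colex

/-!
# The presented Thompson group is simple

It is perfect, the action on the cosets is primitive by the sizes of the suborbits, and the point
stabiliser is not perfect.
-/

set_option autoImplicit false
set_option maxRecDepth 100000

namespace CfsgLib.ThIndex

open CfsgLib.OrbitEnum Cfsg.Spor CfsgLib.ThRep

/-- Letters carried to a group by a homomorphism. -/
theorem map_rels {Q : Type*} [Group Q] (φ : Th →* Q) :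
    (∀ g < 12, φ (letter (g ^^^ 1)) = (φ (letter g))⁻¹) ∧
    ∀ w ∈ U.upperRels ++ U.rels2, wEval (fun g => φ (letter g)) w = 1 :=
  ⟨fun g hg => by rw [letter_inv g (by omega), map_inv],
    fun w hw => by rw [← map_wEval, letter_relsH w (List.mem_append_left _ hw), map_one]⟩

/-- A homomorphism killing a, b, c, d, e, s is trivial. -/
theorem kills_all {Q : Type*} [Group Q] (φ : Th →* Q) (h : ∀ g < 12, φ (letter g) = 1) :
    φ = 1 := by
  have h6 := u_rels.2
  have ht := u_rels.1
  have hu2 := u_square
  simp only [wEval_cons, wEval_nil, mul_one, show letter 15 = (letter 14)⁻¹ from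
    letter_inv 14 (by decide)] at h6 ht
  apply_fun φ at h6 ht hu2
  simp only [map_mul, map_inv, map_one, h 0 (by decide), h 4 (by decide), h 11 (by decide),
    one_mul] at h6 ht hu2
  have hu : φ (letter 14) = 1 := by
    have e : (φ (letter 14))⁻¹ = φ (letter 14) := inv_eq_of_mul_eq_one_right hu2
    rw [e] at h6
    rwa [hu2, mul_one] at h6
  rw [hu, inv_one, one_mul, one_mul] at ht
  have ht3 := congrArg φ t_cube
  rw [map_mul, map_mul, map_one, ht, one_mul] at ht3
  refine PresentedGroup.ext fun x => ?_
  rw [MonoidHom.one_apply]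
  cases x
  · exact h 0 (by decide)
  · exact h 2 (by decide)
  · exact h 4 (by decide)
  · exact h 6 (by decide)
  · exact h 8 (by decide)
  · exact h 10 (by decide)
  · exact ht3
  · exact hu

/-- A normal subgroup containing a is everything. -/
theorem normal_top {N : Subgroup Th} [N.Normal] (ha : letter 0 ∈ N) : N = ⊤ := by
  have h := kills_all (QuotientGroup.mk' N) (H.all_one (map_rels _).1 (map_rels _).2
    ((QuotientGroup.eq_one_iff _).2 ha))
  refine eq_top_iff.2 fun g _ => (QuotientGroup.eq_one_iff g).1 ?_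
  exact DFunLike.congr_fun h g

/-- A homomorphism to a commutative group is trivial. -/
theorem perfect_hom {Q : Type*} [Group Q] (hQ : ∀ u v : Q, u * v = v * u) (φ : Th →* Q) : φ = 1 :=
  kills_all φ (H.all_one_of_comm (map_rels φ).1 (map_rels φ).2 (hQ _ _))

/-- The group is perfect. -/
theorem th_perfect : commutator Th = ⊤ := by
  have h := perfect_hom (fun u v : Abelianization Th => mul_comm u v) Abelianization.of
  refine eq_top_iff.2 fun g _ => (QuotientGroup.eq_one_iff g).1 ?_
  exact DFunLike.congr_fun h g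

theorem subset_sums : ∀ c < 1024,
    let s := 1 + ((List.range 10).map fun k => bif Nat.testBit c k then sizes.getD (k + 1) 0 else 0).sum
    143127000 % s = 0 → s = 1 ∨ s = 143127000 := by
  decide +kernel

theorem th_simple : IsSimpleGroup Th := by
  haveI : Nontrivial Th := by
    rw [← Finite.one_lt_card_iff_nontrivial, th_card]; decide
  refine ⟨fun N hN => ?_⟩
  classical
  let p0 : Th ⧸ thSub := ((1 : Th) : Th ⧸ thSub)
  haveI := hN
  haveI : Finite (Th ⧸ thSub) := inferInstance
  let B : Set (Th ⧸ thSub) := MulAction.orbit N p0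
  have hblock : MulAction.IsBlock Th B := MulAction.IsBlock.orbit_of_normal p0
  have hdvd : B.ncard ∣ 143127000 := by
    have := hblock.ncard_block_mul_ncard_orbit_eq (Set.nonempty_of_mem (MulAction.mem_orbit_self p0))
    rw [← Subgroup.index, index_eq] at this
    exact ⟨_, this.symm⟩
  have hinv : ∀ h ∈ thSub, ∀ q ∈ B, h • q ∈ B := by
    rintro h hh _ ⟨n, rfl⟩
    refine ⟨⟨h * n.1 * h⁻¹, hN.conj_mem n.1 n.2 h⟩, ?_⟩
    show (h * n.1 * h⁻¹) • p0 = h • n.1 • p0
    rw [mul_smul, mul_smul]
    congr 2
    rw [inv_smul_eq_iff, MulAction.Quotient.smul_coe, smul_eq_mul, mul_one, QuotientGroup.eq, inv_one,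
      one_mul]
    exact hh
  have hpr : ∀ m : Model, modelHom m ∈ thSub := fun m => modelHom_range ▸ ⟨m, rfl⟩
  have horb : ∀ j < 11, vert j ∈ B → thCtx.orb (vert j) ⊆ B := by
    rintro j _ hj _ ⟨m, rfl⟩
    exact hinv _ (hpr m) _ hj
  let S : Finset ℕ := (Finset.range 11).filter fun j => vert j ∈ B
  have hB : B = ⋃ j ∈ (S : Set ℕ), thCtx.orb (vert j) := by
    refine Set.Subset.antisymm (fun q hq => ?_) (Set.iUnion₂_subset fun j hj => ?_)
    · have huniv := thCtx.univ_eq (thCtx.table_closed table) vert_zero (by decide) gen_top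
      obtain ⟨j, hj, hqj⟩ := Set.mem_iUnion₂.1 (huniv ▸ Set.mem_univ q : q ∈ ⋃ j ∈ _, _)
      rw [Finset.mem_coe, Finset.mem_range] at hj
      refine Set.mem_iUnion₂.2 ⟨j, Finset.mem_filter.2 ⟨Finset.mem_range.2 hj, ?_⟩, hqj⟩
      obtain ⟨m, hm⟩ : vert j ∈ thCtx.orb q := (thCtx.orb_eq hqj).symm ▸ thCtx.orb_self _
      rw [← hm]
      exact hinv _ (hpr m) _ hq
    · rw [Finset.mem_coe, Finset.mem_filter, Finset.mem_range] at hj
      exact horb j hj.1 hj.2
  have hcard : B.ncard = ∑ j ∈ S, sizes.getD j 0 := by
    rw [hB, Set.Finite.ncard_biUnion (Finset.finite_toSet _) (fun j _ => thCtx.orb_finite _) ?_,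
      finsum_mem_coe_finset]
    · exact Finset.sum_congr rfl fun j hj =>
        orb_card j (Finset.mem_range.1 (Finset.mem_filter.1 hj).1)
    · intro i hi j hj hij
      rw [Finset.mem_coe, Finset.mem_filter, Finset.mem_range] at hi hj
      rw [Function.onFun, Set.disjoint_left]
      exact fun q hqi hqj =>
        hij (iso_all j hj.1 i hi.1 ((thCtx.orb_eq hqi).symm.trans (thCtx.orb_eq hqj)))
  have h0 : 0 ∈ S := by
    refine Finset.mem_filter.2 ⟨by simp, ?_⟩
    rw [vert_zero]
    exact MulAction.mem_orbit_self p0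
  let bits : Finset ℕ := (Finset.range 10).filter fun k => k + 1 ∈ S
  let c : ℕ := ∑ k ∈ bits, 2 ^ k
  have hc : ∀ k, c.testBit k = true ↔ k ∈ bits := fun k => by
    rw [← Nat.mem_bitIndices, ← List.mem_toFinset, Finset.toFinset_bitIndices_sum_two_pow]
  have hclt : c < 1024 := Nat.lt_pow_two_of_testBit (n := 10) c fun k hk => by
    cases hb : c.testBit k
    · rfl
    · have := Finset.mem_range.1 (Finset.mem_filter.1 ((hc k).1 hb)).1
      omega
  have hsum : B.ncard = 1 + ((List.range 10).map fun k =>
      bif Nat.testBit c k then sizes.getD (k + 1) 0 else 0).sum := by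
    rw [hcard, show ((List.range 10).map fun k =>
        bif Nat.testBit c k then sizes.getD (k + 1) 0 else 0).sum =
        ∑ k ∈ bits, sizes.getD (k + 1) 0 from ?_]
    · rw [← Finset.add_sum_erase S _ h0, show S.erase 0 = bits.image (· + 1) from ?_,
        Finset.sum_image fun a _ b _ e => by simpa using e]
      · rfl
      · ext j
        simp only [Finset.mem_erase, Finset.mem_image, bits, Finset.mem_filter, Finset.mem_range]
        constructor
        · rintro ⟨hj0, hj⟩
          refine ⟨j - 1, ⟨?_, ?_⟩, by omega⟩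
          · have := Finset.mem_range.1 (Finset.mem_filter.1 hj).1; omega
          · rwa [show j - 1 + 1 = j from by omega]
        · rintro ⟨k, ⟨-, hk⟩, rfl⟩
          exact ⟨by omega, hk⟩
    · rw [Finset.sum_filter, ← List.sum_toFinset _ List.nodup_range, List.toFinset_range]
      refine Finset.sum_congr rfl fun k hk => ?_
      by_cases hb : k + 1 ∈ S
      · rw [if_pos hb, (hc k).2 (Finset.mem_filter.2 ⟨hk, hb⟩)]; rfl
      · rw [if_neg hb, Bool.eq_false_iff.2 fun e => hb (Finset.mem_filter.1 ((hc k).1 e)).2]; rfl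
  rcases subset_sums c hclt (Nat.mod_eq_zero_of_dvd (hsum ▸ hdvd)) with hs | hs <;> rw [← hsum] at hs
  · -- N fixes the point, so lies in the subgroup
    left
    have hNH : N ≤ thSub := fun n hn => by
      obtain ⟨a, ha⟩ := Set.ncard_eq_one.1 hs
      have h1 : p0 ∈ B := MulAction.mem_orbit_self p0
      have h2 : n • p0 ∈ B := MulAction.mem_orbit p0 (⟨n, hn⟩ : N)
      rw [ha, Set.mem_singleton_iff] at h1 h2
      have e : n • p0 = p0 := h2.trans h1.symm
      rw [MulAction.Quotient.smul_coe, smul_eq_mul, mul_one] at e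
      simpa using inv_mem (QuotientGroup.eq.1 e)
    by_contra hne
    have : N.comap modelHom ≠ ⊥ := fun hb => hne (Subgroup.eq_bot_iff_forall _ |>.2 fun n hn => by
      obtain ⟨m, rfl⟩ := (modelHom_range ▸ hNH hn : n ∈ modelHom.range)
      have : m ∈ N.comap modelHom := hn
      rw [hb, Subgroup.mem_bot] at this
      rw [this, map_one])
    have ha := H.normal_ge_core H.valid gens this (Subgroup.subset_closure ⟨0, rfl⟩ : H.setting.mg letter 0 ∈ H.core letter)
    rw [Subgroup.mem_comap, modelHom_mg (g := 0) (by decide)] at ha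
    exact u_not_mem (hNH (normal_top ha ▸ Subgroup.mem_top _))
  · -- N is transitive
    have huniv : B = Set.univ := Set.eq_of_subset_of_ncard_le (Set.subset_univ B)
      (by rw [Set.ncard_univ, ← Subgroup.index, index_eq, hs]) Set.finite_univ
    by_cases hb : N.comap modelHom = ⊥
    · exfalso
      haveI := H.core_normal (x := letter) H.valid gens
      let ψ : Model →* Th ⧸ N := (QuotientGroup.mk' N).comp modelHom
      have hbij : Function.Bijective ψ := by
        refine ⟨(injective_iff_map_eq_one ψ).2 fun m hm => ?_, fun q => ?_⟩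
        · have : m ∈ N.comap modelHom := (QuotientGroup.eq_one_iff (modelHom m)).1 hm
          rwa [hb, Subgroup.mem_bot] at this
        · obtain ⟨g, rfl⟩ := QuotientGroup.mk'_surjective N q
          obtain ⟨n, hn⟩ : ((g : Th) : Th ⧸ thSub) ∈ B := huniv ▸ Set.mem_univ _
          have e : ((n.1 * 1 : Th) : Th ⧸ thSub) = (g : Th ⧸ thSub) := hn
          have : n.1⁻¹ * g ∈ thSub := by simpa using QuotientGroup.eq.1 e
          rw [← modelHom_range] at this
          obtain ⟨m, hm⟩ := this
          refine ⟨m, ?_⟩
          show QuotientGroup.mk' N (modelHom m) = _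
          rw [hm, map_mul, map_inv, show QuotientGroup.mk' N n.1 = 1 from
            (QuotientGroup.eq_one_iff _).2 n.2, inv_one, one_mul]
      let φ : Th →* Model ⧸ H.core letter := (QuotientGroup.mk' (H.core letter)).comp
        ((MulEquiv.ofBijective ψ hbij).symm.toMonoidHom.comp (QuotientGroup.mk' N))
      have hφ := perfect_hom core_quot_comm φ
      refine core_ne_top (eq_top_iff.2 fun m _ => (QuotientGroup.eq_one_iff m).1 ?_)
      obtain ⟨g, hg⟩ := QuotientGroup.mk'_surjective N (ψ m)
      have := DFunLike.congr_fun hφ g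
      simp only [φ, MonoidHom.coe_comp, Function.comp_apply, MonoidHom.one_apply, hg] at this
      rw [show (MulEquiv.ofBijective ψ hbij).symm.toMonoidHom (ψ m) = m from
        (MulEquiv.ofBijective ψ hbij).symm_apply_apply m] at this
      exact this
    · right
      have ha := H.normal_ge_core H.valid gens hb (Subgroup.subset_closure ⟨0, rfl⟩ : H.setting.mg letter 0 ∈ H.core letter)
      rw [Subgroup.mem_comap, modelHom_mg (g := 0) (by decide)] at ha
      exact normal_top ha

/-- The presented group is a Thompson group. -/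
theorem th_isTh : Cfsg.IsTh Th := ⟨th_simple, th_card⟩

/-- The representation is faithful. -/
theorem rho_injective : Function.Injective rho := by
  rw [← MonoidHom.ker_eq_bot_iff]
  haveI := th_simple
  rcases IsSimpleGroup.eq_bot_or_eq_top_of_normal rho.ker (MonoidHom.normal_ker rho) with h | h
  · exact h
  · exfalso
    have hp : ∀ g, rho g = 1 := fun g => MonoidHom.mem_ker.1 (h ▸ Subgroup.mem_top g)
    exact rho_a_ne_one (hp _)

end CfsgLib.ThIndex
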