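import Cfsg.Agent.Lib.OrbitEnum.Deriv
import Cfsg.Agent.Lib.CosetCert.Basic
import Cfsg.Agent.Lib.ThIndex.UCosets
import Mathlib.GroupTheory.Index
import Mathlib.GroupTheory.GroupAction.Quotient

/-!
# The order of a group with the relators of U₃(3):2 is at most 12096
-/

set_option autoImplicit false
set_option maxRecDepth 100000

namespace CfsgLib.ThIndex.U

open CfsgLib.OrbitEnum

/-- The coset certificate of a table. -/
def certOf (T : Tbl) (reps : List ℕ) (rels subs : List (List ℕ)) : CosetCert.Data where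
  n := T.n
  ng := T.ng
  iv g := g ^^^ 1
  tbl i g := T.step g i
  rep i := decW (reps.getD i 1)
  rels := rels
  subs := subs

/-- The first certificate. -/
def upperD : CosetCert.Data := certOf upperTbl upperReps upperRels upperSubs

/-- The second certificate. -/
def lowerD : CosetCert.Data := certOf lowerTbl lowerReps lowerRels lowerSubs

theorem upper_ok : CosetCert.check upperD upperTree upperSteps = true := by decide +kernel

theorem lower_ok : CosetCert.check lowerD lowerTree lowerSteps = true := by decide +kernel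

/-- The letters of the second certificate. -/
def low (g : ℕ) : ℕ := bif Nat.blt g 2 then g else g + 2

theorem low_ok : ((lowerRels.all fun w => upperRels.contains (w.map low)) &&
    (lowerRels.all fun w => ltW 8 w) &&
    ((List.range 8).all fun g => Nat.blt (low g) 10 && Nat.beq (low (g ^^^ 1)) (low g ^^^ 1) &&
      Nat.blt (g ^^^ 1) 8) &&
    ((List.range 10).all fun g => Nat.blt (g ^^^ 1) 10) &&
    (upperSubs.all fun w => [[0], [4], [6], [8]].contains w)) = true := by decide +kernel

variable {H : Type*} [Group H]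

theorem act_inv (x : ℕ → H) (w : List ℕ) :
    CosetCert.act (fun g => (x g)⁻¹) w = (wEval x w)⁻¹ := by
  induction w with
  | nil => simp
  | cons g w ih => rw [CosetCert.act_cons, ih, wEval_cons, mul_inv_rev]

/-- The bound. -/
theorem U_bound (x : ℕ → H) (hinv : ∀ g < 10, x (g ^^^ 1) = (x g)⁻¹)
    (hrel : ∀ w ∈ upperRels, wEval x w = 1)
    (hgen : Subgroup.closure (Set.range fun g : Fin 10 => x g) = ⊤) :
    Finite H ∧ Nat.card H ≤ 12096 := by
  have hok := low_ok
  simp only [Bool.and_eq_true, List.all_eq_true, List.mem_range, Nat.blt_eq, Nat.beq_eq,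
    List.contains_iff_mem] at hok
  obtain ⟨⟨⟨⟨hlr, hlw⟩, hlow⟩, hxor⟩, hsub⟩ := hok
  let K : Subgroup H := Subgroup.closure (Set.range fun g : Fin 8 => x (low g))
  -- the cosets of the subgroup
  have hmem : ∀ g < 8, x (low g) ∈ K := fun g hg => Subgroup.subset_closure ⟨⟨g, hg⟩, rfl⟩
  have hiv : ∀ g, g < upperD.ng → (fun g => (x g)⁻¹) (upperD.iv g) = ((fun g => (x g)⁻¹) g)⁻¹ := by
    intro g hg
    show (x (g ^^^ 1))⁻¹ = ((x g)⁻¹)⁻¹
    rw [hinv g hg]
  obtain ⟨h0, hT⟩ := CosetCert.check_sound (M := H) (X := H ⧸ K)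
    (gen := fun g => (x g)⁻¹) (x₀ := ((1 : H) : H ⧸ K)) upper_ok hiv
    (fun w hw => by rw [act_inv, hrel w hw, inv_one])
    (fun w hw => by
      rw [act_inv, MulAction.Quotient.smul_coe, smul_eq_mul, mul_one, QuotientGroup.eq, inv_inv,
        mul_one]
      have := hsub w hw
      simp only [List.mem_cons, List.not_mem_nil, or_false] at this
      rcases this with rfl | rfl | rfl | rfl <;> simp only [wEval_cons, wEval_nil, mul_one]
      · exact hmem 0 (by decide)
      · exact hmem 2 (by decide)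
      · exact hmem 4 (by decide)
      · exact hmem 6 (by decide))
  let P : Set (H ⧸ K) := Set.range fun i : Fin upperD.n => CosetCert.pt upperD (fun g => (x g)⁻¹) ((1 : H) : H ⧸ K) i
  have hstab : ∀ g < 10, ∀ q ∈ P, (x g)⁻¹ • q ∈ P := by
    rintro g hg _ ⟨i, rfl⟩
    obtain ⟨e1, e2⟩ := hT i g i.2 hg
    exact ⟨⟨_, e1⟩, e2.symm⟩
  have hall : ∀ h : H, ∀ q ∈ P, h • q ∈ P := by
    intro h
    induction (hgen.symm ▸ Subgroup.mem_top h :
        h ∈ Subgroup.closure (Set.range fun g : Fin 10 => x g))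
      using Subgroup.closure_induction'' with
    | mem y hy =>
      obtain ⟨g, rfl⟩ := hy
      intro q hq
      have := hstab (g.1 ^^^ 1) (hxor g g.2) q hq
      rwa [hinv g g.2, inv_inv] at this
    | inv_mem y hy =>
      obtain ⟨g, rfl⟩ := hy
      exact hstab g g.2
    | one => intro q hq; rwa [one_smul]
    | mul y z _ _ ey ez => intro q hq; rw [mul_smul]; exact ey _ (ez _ hq)
  have hP : P = Set.univ := Set.eq_univ_iff_forall.2 fun q => by
    obtain ⟨h, rfl⟩ := QuotientGroup.mk_surjective q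
    have := hall h _ ⟨⟨0, by decide⟩, h0⟩
    rwa [MulAction.Quotient.smul_coe, smul_eq_mul, mul_one] at this
  have hfin : Finite (H ⧸ K) := Set.finite_univ_iff.1 (hP ▸ Set.finite_range _)
  have hidx : K.index ≤ 126 := by
    rw [Subgroup.index, ← Set.ncard_univ, ← hP, ← Nat.card_coe_set_eq]
    exact (Finite.card_range_le _).trans (Nat.card_fin _).le
  -- the elements of the subgroup
  have hiv' : ∀ g, g < lowerD.ng →
      (fun g => (x (low g))⁻¹) (lowerD.iv g) = ((fun g => (x (low g))⁻¹) g)⁻¹ := by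
    intro g hg
    show (x (low (g ^^^ 1)))⁻¹ = ((x (low g))⁻¹)⁻¹
    rw [(hlow g hg).1.2, hinv _ (hlow g hg).1.1]
  obtain ⟨k0, kT⟩ := CosetCert.check_sound (M := H) (X := H)
    (gen := fun g => (x (low g))⁻¹) (x₀ := (1 : H)) lower_ok hiv'
    (fun w hw => by
      rw [act_inv (fun g => x (low g)) w, inv_eq_one, ← hrel _ (hlr w hw), wEval, wEval,
        List.map_map]
      rfl)
    (fun w hw => by simp [lowerD, certOf, lowerSubs] at hw)
  let S : Set H := Set.range fun i : Fin lowerD.n => CosetCert.pt lowerD (fun g => (x (low g))⁻¹) (1 : H) i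
  have kstab : ∀ g < 8, ∀ q ∈ S, (x (low g))⁻¹ * q ∈ S := by
    rintro g hg _ ⟨i, rfl⟩
    obtain ⟨e1, e2⟩ := kT i g i.2 hg
    exact ⟨⟨_, e1⟩, e2.symm⟩
  have kall : ∀ h ∈ K, ∀ q ∈ S, h * q ∈ S := by
    intro h hh
    induction hh using Subgroup.closure_induction'' with
    | mem y hy =>
      obtain ⟨g, rfl⟩ := hy
      intro q hq
      have := kstab (g.1 ^^^ 1) (hlow g g.2).2 q hq
      rwa [(hlow g g.2).1.2, hinv _ (hlow g g.2).1.1, inv_inv] at this
    | inv_mem y hy =>
      obtain ⟨g, rfl⟩ := hy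
      exact kstab g g.2
    | one => intro q hq; rwa [one_mul]
    | mul y z _ _ ey ez => intro q hq; rw [mul_assoc]; exact ey _ (ez _ hq)
  have hKS : (K : Set H) ⊆ S := fun h hh => by
    have := kall h hh 1 ⟨⟨0, by decide⟩, k0⟩
    rwa [mul_one] at this
  have hKfin : Finite K := ((Set.finite_range _).subset hKS).to_subtype
  have hKcard : Nat.card K ≤ 96 := by
    show Nat.card (K : Set H) ≤ 96
    rw [Nat.card_coe_set_eq]
    refine (Set.ncard_le_ncard hKS (Set.finite_range _)).trans ?_
    rw [← Nat.card_coe_set_eq]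
    exact (Finite.card_range_le _).trans (Nat.card_fin _).le
  have hH : Finite H := Finite.of_equiv _ (Subgroup.groupEquivQuotientProdSubgroup (s := K)).symm
  refine ⟨hH, ?_⟩
  rw [← K.index_mul_card]
  calc K.index * Nat.card K ≤ 126 * 96 := Nat.mul_le_mul hidx hKcard
    _ = 12096 := by norm_num

end CfsgLib.ThIndex.U
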