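import Cfsg.Agent.Lib.OrbitEnum.Cert
import Cfsg.Agent.Lib.ThIndex.UBound
import Cfsg.Agent.Lib.ThIndex.GT1
import Cfsg.Agent.Lib.ThIndex.GT2
import Cfsg.Agent.Lib.ThIndex.GData
import Cfsg.Agent.Lib.ThIndex.GRecs

/-!
# The model of U₃(3):2 with the cosets of a subgroup twisted by u
-/

set_option autoImplicit false
set_option maxRecDepth 100000

namespace CfsgLib.ThIndex.G

open CfsgLib.OrbitEnum

/-- The setting. -/
def setting : Setting where
  T1 := T1
  T2 := T2
  rels := U.upperRels
  size := 12096
  chain := chain'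
  top := { pt := 0, gens := [[0], [2], [4], [6], [8]], rows := decRows topCode }
  kgens := kgens
  kchain := kchain

theorem ok1 : ((List.range T1.ng).all fun g => T1.letterOk g) = true := by decide +kernel

theorem ok2 : ((List.range T2.ng).all fun g => T2.letterOk g) = true := by decide +kernel

theorem rels_ok : (U.upperRels.all fun w => T1.fixAll w && T2.fixAll w) = true := by decide +kernel

theorem chains_ok : (chainOk T1 [] chain' && Nat.beq (chainSize chain') 12096 &&
    chainOk T2 [] [setting.top] && Nat.beq ((decRows topCode).length + 1) T2.n &&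
    (kgens.all fun w => ltW 10 w && Nat.beq (T2.img w 0) 0) &&
    chainOk T1 [] setting.kLevels &&
    Nat.beq (((decRows topCode).length + 1) * chainSize setting.kLevels) 12096) = true := by
  decide +kernel

theorem valid : setting.Valid := by
  have h := chains_ok
  simp only [Bool.and_eq_true, Nat.beq_eq] at h
  obtain ⟨⟨⟨⟨⟨⟨h1, h2⟩, h3⟩, h4⟩, h5⟩, h6⟩, h7⟩ := h
  exact {
    ok1 := fun g hg => List.all_eq_true.1 ok1 g (List.mem_range.2 hg)
    ok2 := fun g hg => List.all_eq_true.1 ok2 g (List.mem_range.2 hg)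
    ng_eq := rfl
    rels1 := fun w hw => (Bool.and_eq_true _ _ ▸ List.all_eq_true.1 rels_ok w hw).1
    rels2 := fun w hw => (Bool.and_eq_true _ _ ▸ List.all_eq_true.1 rels_ok w hw).2
    chain_ok := ⟨h1, h2⟩
    top_ok := ⟨h3, rfl⟩
    top_len := h4
    kgens_ok := h5
    kchain_ok := ⟨h6, h7⟩
    bound := fun x hinv hrel hgen => U.U_bound x hinv hrel hgen }

end CfsgLib.ThIndex.G
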