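import Cfsg.Agent.Lib.OrbitEnum.Rules

/-!
# Comparing words in a group given by relators

Letters are replaced by equal words, and adjacent inverse letters cancel.
-/

set_option autoImplicit false

namespace CfsgLib.ThIndex

open CfsgLib.OrbitEnum

/-- Free reduction with a table of inverse letters. -/
def red (iv : ℕ → ℕ) : List ℕ → List ℕ :=
  List.foldr (fun g acc => match acc with
    | h :: t => bif Nat.beq h (iv g) then t else g :: h :: t
    | [] => [g]) []

/-- The word of a list of steps; the first step acts first. -/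
def stepsW (U : ℕ) : List (Option (List ℕ)) → List ℕ
  | [] => []
  | none :: r => stepsW U r ++ [U]
  | some g :: r => stepsW U r ++ g

/-- A normal form of a word: substitute, then cancel. -/
def norm (iv : ℕ → ℕ) (σ : ℕ → List ℕ) (w : List ℕ) : List ℕ := red iv (w.map σ).flatten

variable {G : Type*} [Group G] {x : ℕ → G}

theorem wEval_red {iv : ℕ → ℕ} : ∀ {w : List ℕ}, (∀ g ∈ w, x g * x (iv g) = 1) →
    wEval x (red iv w) = wEval x w
  | [], _ => rfl
  | g :: w, h => by
    have ih := wEval_red (iv := iv) (w := w) fun a ha => h a (List.mem_cons_of_mem _ ha)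
    have hg := h g List.mem_cons_self
    rw [wEval_cons, ← ih]
    show wEval x (match red iv w with
      | h :: t => bif Nat.beq h (iv g) then t else g :: h :: t
      | [] => [g]) = _
    cases hr : red iv w with
    | nil => simp [wEval_cons]
    | cons a t =>
      cases hb : Nat.beq a (iv g) with
      | false => simp [hb, wEval_cons]
      | true =>
        rw [Nat.beq_eq] at hb
        simp only [wEval_cons, hb, Nat.beq_refl, cond_true, ← mul_assoc, hg, one_mul]

theorem wEval_subst {σ : ℕ → List ℕ} : ∀ {w : List ℕ}, (∀ g ∈ w, wEval x (σ g) = x g) →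
    wEval x (w.map σ).flatten = wEval x w
  | [], _ => rfl
  | g :: w, h => by
    rw [List.map_cons, List.flatten_cons, wEval_append, wEval_cons, h g List.mem_cons_self,
      wEval_subst fun a ha => h a (List.mem_cons_of_mem _ ha)]

theorem wEval_norm {iv : ℕ → ℕ} {σ : ℕ → List ℕ} {N : ℕ} (hiv : ∀ g < N, x g * x (iv g) = 1)
    (hσ : ∀ g < N, wEval x (σ g) = x g) {w : List ℕ} (hw : ltW N w = true)
    (hw' : ltW N (w.map σ).flatten = true) : wEval x (norm iv σ w) = wEval x w := by
  rw [norm, wEval_red fun g hg => hiv g (ltW_iff.1 hw' g hg),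
    wEval_subst fun g hg => hσ g (ltW_iff.1 hw g hg)]

/-- Two words with the same normal form have the same value. -/
theorem eq_of_norm {iv : ℕ → ℕ} {σ : ℕ → List ℕ} {N : ℕ} (hiv : ∀ g < N, x g * x (iv g) = 1)
    (hσ : ∀ g < N, wEval x (σ g) = x g) {u v : List ℕ}
    (h : (ltW N u && ltW N v && ltW N (u.map σ).flatten && ltW N (v.map σ).flatten &&
      decide (norm iv σ u = norm iv σ v)) = true) : wEval x u = wEval x v := by
  simp only [Bool.and_eq_true, decide_eq_true_eq] at h
  obtain ⟨⟨⟨⟨h1, h2⟩, h3⟩, h4⟩, h5⟩ := h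
  rw [← wEval_norm hiv hσ h1 h3, h5, wEval_norm hiv hσ h2 h4]

theorem stepsProd_eq {H : Type} [Group H] (y : ℕ → H) (U : ℕ) :
    ∀ r : List (Option (List ℕ)), stepsProd y (y U) r = wEval y (stepsW U r)
  | [] => rfl
  | none :: r => by
    rw [stepsProd, stepsW, wEval_append, stepsProd_eq y U r, wEval_cons, wEval_nil, mul_one]
  | some g :: r => by rw [stepsProd, stepsW, wEval_append, stepsProd_eq y U r]

theorem wEval_rotate {u v : List ℕ} (h : wEval x (u ++ v) = 1) : wEval x (v ++ u) = 1 := by
  rw [wEval_append] at h ⊢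
  exact mul_eq_one_comm.1 h

/-- A word is, up to normal forms, a rotation of a relator or of its inverse. -/
def oneOk (iv : ℕ → ℕ) (σ : ℕ → List ℕ) (N : ℕ) (rels : List (List ℕ)) (w : List ℕ) : Bool :=
  rels.any fun q => ltW N q && (List.range (q.length + 1)).any fun i =>
    let r := q.drop i ++ q.take i
    (ltW N w && ltW N r && ltW N (w.map σ).flatten && ltW N (r.map σ).flatten &&
      decide (norm iv σ w = norm iv σ r)) ||
    (ltW N w && ltW N (invW r) && ltW N (w.map σ).flatten && ltW N ((invW r).map σ).flatten &&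
      decide (norm iv σ w = norm iv σ (invW r)))

theorem one_of_oneOk {iv : ℕ → ℕ} {σ : ℕ → List ℕ} {N : ℕ} {rels : List (List ℕ)} {w : List ℕ}
    (hx : ∀ g < N, x (g ^^^ 1) = (x g)⁻¹) (hiv : ∀ g < N, x g * x (iv g) = 1)
    (hσ : ∀ g < N, wEval x (σ g) = x g) (hrel : ∀ q ∈ rels, wEval x q = 1)
    (h : oneOk iv σ N rels w = true) : wEval x w = 1 := by
  simp only [oneOk, List.any_eq_true, Bool.and_eq_true, decide_eq_true_eq] at h
  obtain ⟨q, hq, hlt, i, -, h⟩ := h
  have hr : wEval x (q.drop i ++ q.take i) = 1 :=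
    wEval_rotate (by rw [List.take_append_drop]; exact hrel q hq)
  have hlr : ltW N (q.drop i ++ q.take i) = true := by
    rw [← List.take_append_drop i q, ltW_append] at hlt
    exact ltW_append.2 ⟨hlt.2, hlt.1⟩
  simp only [Bool.or_eq_true, Bool.and_eq_true, decide_eq_true_eq] at h
  rcases h with h | h
  · rw [eq_of_norm hiv hσ (u := w) (v := q.drop i ++ q.take i)
      (by simpa [Bool.and_eq_true] using h), hr]
  · rw [eq_of_norm hiv hσ (u := w) (v := invW (q.drop i ++ q.take i))
      (by simpa [Bool.and_eq_true] using h), wEval_invW _ hx hlr, hr, inv_one]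

end CfsgLib.ThIndex
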