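import Cfsg.Agent.Lib.ThIndex.GSetting
import Cfsg.Agent.Lib.ThIndex.GCosets
import Cfsg.Agent.Lib.ThIndex.Words
import Mathlib.Algebra.Group.Subgroup.Basic
import Mathlib.Tactic.IntervalCases
import Mathlib.Tactic.Group

/-!
# Elements carried by u into U₃(3):2

In a group with the relators on a, b, c, d, e, u, the words of a table are exchanged by u. The cosets
of U₃(3):2 give the membership, and the table of 702 cosets identifies the elements.
-/

set_option autoImplicit false
set_option maxRecDepth 100000

namespace CfsgLib.ThIndex.G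

open CfsgLib.OrbitEnum

/-- The inverse letters after normalisation. -/
def iv (g : ℕ) : ℕ := bif Nat.blt g 10 then g else g ^^^ 1

/-- The substitution. -/
def sub (g : ℕ) : List ℕ :=
  bif Nat.beq g 11 then [0, 4, 10] else bif Nat.blt g 10 && Nat.beq (g % 2) 1 then [g - 1] else [g]

theorem cos_ok : (((List.range 12).all fun g => cosTbl.letterOk g) &&
    ((U.upperRels ++ rels4).all fun w => cosTbl.fixAll w) &&
    chainOk { cosTbl with ng := 10 } [] chain && Nat.beq (chainSize chain) 12096) = true := by
  decide +kernel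

theorem small_ok : ((U.upperRels.contains [0, 0] && U.upperRels.contains [2, 2] &&
    U.upperRels.contains [4, 4] && U.upperRels.contains [6, 6] && U.upperRels.contains [8, 8] &&
    rels4.contains [10, 10, 5, 1]) &&
    setting.same [0, 4, 0, 4] [] &&
    (loops.all fun r => oneOk iv sub 12 rels4 (stepsW 10 r)) &&
    ((List.range 3).all fun i => oneOk iv sub 12 rels4
      ([10] ++ kgens.getD i [] ++ [11] ++ invW (kth.getD i []))) &&
    oneOk iv sub 12 rels4 (invW [3, 0, 4, 2] ++ [10] ++ [3, 0, 4, 2] ++ [9] ++ [11]) &&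
    script.parOk && ((List.range 88).all fun n => script.recOk setting twist n) &&
    (ltW setting.ng twist.pre && ltW setting.ng twist.post &&
      Nat.beq twist.kth.length setting.kgens.length && twist.kth.all (ltW setting.ng)) &&
    (pairs.all fun p => ltW 10 p.1 && ltW 10 p.2.1 &&
      cosTbl.fixAll ([11] ++ p.2.1 ++ [10] ++ invW p.1) &&
      setting.same p.2.1 ((p.2.2.map fun i => (script.get i).x).flatten) &&
      p.2.2.all fun i => Nat.blt i 88 && Nat.beq (script.get i).kind 1 &&
        Nat.beq (script.get i).src 1 && Nat.beq (script.get i).dst 1 &&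
        Nat.beq (script.get i).yc 1) &&
    Nat.beq (script.par.getD 0 (9, 9)).1 0 && Nat.beq (script.par.getD 0 (9, 9)).2 1) = true := by
  decide +kernel

section

variable {H : Type} [Group H] (x : ℕ → H)

/-- The pair of a letter. -/
noncomputable def duo (g : ℕ) : H × Equiv.Perm (Fin cosTbl.n) := (x g, cosTbl.perm g)

/-- The group of pairs. -/
abbrev Big : Type := ↥(Subgroup.closure (Set.range fun g : Fin 12 => duo x g))

/-- The pair of a letter, in the group of pairs. -/
noncomputable def mb (g : ℕ) : Big x :=
  if h : g < 12 then ⟨duo x g, Subgroup.subset_closure ⟨⟨g, h⟩, rfl⟩⟩ else 1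

/-- The part over U₃(3):2. -/
abbrev Base : Subgroup (Big x) := Subgroup.closure (Set.range fun g : Fin 10 => mb x g)

/-- The letters in the part over U₃(3):2. -/
noncomputable def mu (g : ℕ) : Base x :=
  if h : g < 10 then ⟨mb x g, Subgroup.subset_closure ⟨⟨g, h⟩, rfl⟩⟩ else 1

/-- The projection to the group. -/
noncomputable def prH : Big x →* H := (MonoidHom.fst H _).comp (Subgroup.closure _).subtype

/-- The projection to the permutations of the cosets. -/
noncomputable def prT : Big x →* Equiv.Perm (Fin cosTbl.n) :=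
  (MonoidHom.snd H _).comp (Subgroup.closure _).subtype

theorem pr_mb {g : ℕ} (hg : g < 12) : prH x (mb x g) = x g ∧ prT x (mb x g) = cosTbl.perm g := by
  constructor
  · show (mb x g).1.1 = _
    rw [mb, dif_pos hg]
    rfl
  · show (mb x g).1.2 = _
    rw [mb, dif_pos hg]
    rfl

theorem mb_word {w : List ℕ} (hw : ltW 12 w = true) :
    prH x (wEval (mb x) w) = wEval x w ∧ prT x (wEval (mb x) w) = wEval cosTbl.perm w :=
  ⟨(map_wEval _ _ w).trans (wEval_congr _ hw fun _ hg => (pr_mb x hg).1),
    (map_wEval _ _ w).trans (wEval_congr _ hw fun _ hg => (pr_mb x hg).2)⟩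

theorem mu_word {w : List ℕ} (hw : ltW 10 w = true) :
    ((wEval (mu x) w : Base x) : Big x) = wEval (mb x) w := by
  show (Base x).subtype (wEval (mu x) w) = _
  rw [map_wEval]
  refine wEval_congr _ hw fun g hg => ?_
  show ((mu x g : Base x) : Big x) = _
  rw [mu, dif_pos hg]

/-- Words exchanged by u. -/
theorem pair_eq (hinv : ∀ g < 12, x (g ^^^ 1) = (x g)⁻¹) (hU : ∀ w ∈ U.upperRels, wEval x w = 1)
    (h4 : ∀ w ∈ rels4, wEval x w = 1) :
    ∀ p ∈ pairs, x 10 * wEval x p.1 = wEval x p.2.1 * x 10 := by
  have hcos := cos_ok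
  simp only [Bool.and_eq_true, List.all_eq_true, List.mem_range, Nat.beq_eq] at hcos
  obtain ⟨⟨⟨hTok, hTrel⟩, hchain⟩, hsize⟩ := hcos
  have hT : cosTbl.Ok := fun g hg => hTok g hg
  have hlt : ∀ w ∈ U.upperRels ++ rels4, ltW 12 w = true := by
    intro w hw
    have h := hTrel w hw
    rw [Tbl.fixAll, Bool.and_eq_true] at h
    exact h.1
  have hxor : ∀ g < 12, g ^^^ 1 < 12 := fun g hg => hT.xor_lt (g := g) hg
  have hxor10 : ∀ g < 10, g ^^^ 1 < 10 := by decide
  have minv : ∀ g < 12, mb x (g ^^^ 1) = (mb x g)⁻¹ := by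
    intro g hg
    apply Subtype.ext
    rw [Subgroup.coe_inv, mb, dif_pos (hxor g hg), mb, dif_pos hg]
    exact Prod.ext (hinv g hg) (hT.perm_xor hg)
  have msat : ∀ w ∈ U.upperRels ++ rels4, wEval (mb x) w = 1 := by
    intro w hw
    obtain ⟨e1, e2⟩ := mb_word x (hlt w hw)
    apply Subtype.ext
    refine Prod.ext ?_ ?_
    · show prH x _ = _
      rw [e1]
      rcases List.mem_append.1 hw with h | h
      exacts [hU w h, h4 w h]
    · show prT x _ = _
      rw [e2]
      exact hT.eval_eq_one (hTrel w hw)
  have gens : setting.Gens (mb x) :=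
    ⟨fun g hg => minv g (lt_trans (hg : g < 10) (by decide)), fun w hw =>
      msat w (List.mem_append_left _ hw)⟩
  have hs := small_ok
  simp only [Bool.and_eq_true, List.all_eq_true, List.mem_range, List.contains_iff_mem,
    Nat.beq_eq] at hs
  obtain ⟨⟨⟨⟨⟨⟨⟨⟨⟨⟨⟨⟨⟨⟨⟨c0, c2⟩, c4⟩, c6⟩, c8⟩, cu⟩, hac⟩, hloop⟩, htw⟩, htw3⟩, hpar⟩, hrec⟩,
    htok⟩, hpairs⟩, hp0⟩, hp1⟩ := hs
  have hW : ∀ {u v : List ℕ}, setting.same u v = true → wEval (mb x) u = wEval (mb x) v :=
    fun e => Setting.eq_of_same valid gens e
  have sq : ∀ g < 10, mb x g * mb x g = 1 := by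
    have h2 : ∀ g, [g, g] ∈ U.upperRels → mb x g * mb x g = 1 := fun g hg => by
      simpa [wEval_cons] using msat _ (List.mem_append_left _ hg)
    intro g hg
    have hodd : ∀ g, [g, g] ∈ U.upperRels → g < 12 → mb x (g ^^^ 1) * mb x (g ^^^ 1) = 1 :=
      fun g hm hg => by rw [minv g hg, ← mul_inv_rev, h2 g hm, inv_one]
    interval_cases g
    · exact h2 0 c0
    · exact hodd 0 c0 (by decide)
    · exact h2 2 c2
    · exact hodd 2 c2 (by decide)
    · exact h2 4 c4
    · exact hodd 4 c4 (by decide)
    · exact h2 6 c6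
    · exact hodd 6 c6 (by decide)
    · exact h2 8 c8
    · exact hodd 8 c8 (by decide)
  have m11 : mb x 11 = (mb x 10)⁻¹ := minv 10 (by decide)
  have hiv : ∀ g < 12, mb x g * mb x (iv g) = 1 := by
    intro g hg
    by_cases h : g < 10
    · rw [show iv g = g from by simp [iv, show Nat.blt g 10 = true from by rw [Nat.blt_eq]; exact h]]
      exact sq g h
    · obtain rfl | rfl : g = 10 ∨ g = 11 := by omega
      · rw [show iv 10 = 11 from rfl, m11, mul_inv_cancel]
      · rw [show iv 11 = 10 from rfl, m11, inv_mul_cancel]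
  have hacu : wEval (mb x) [0, 4, 10] = mb x 11 := by
    have hr := msat _ (List.mem_append_right _ cu)
    have h5 : mb x 5 = (mb x 4)⁻¹ := minv 4 (by decide)
    have h1 : mb x 1 = (mb x 0)⁻¹ := minv 0 (by decide)
    have hq := hW hac
    simp only [wEval_cons, wEval_nil, mul_one, h5, h1] at hr hq ⊢
    rw [m11]
    have e : mb x 10 * mb x 10 = mb x 0 * mb x 4 := by
      rw [← mul_inv_rev, ← mul_assoc, mul_inv_eq_one] at hr
      exact hr
    refine eq_inv_of_mul_eq_one_left ?_
    rw [mul_assoc, mul_assoc, e]
    exact hq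
  have hσ : ∀ g < 12, wEval (mb x) (sub g) = mb x g := by
    intro g hg
    by_cases h11 : g = 11
    · subst h11
      exact hacu
    · have hinvol : ∀ g < 10, g % 2 = 1 → mb x (g - 1) = mb x g := by
        intro g hg ho
        have e1 : g ^^^ 1 = g - 1 := by interval_cases g <;> simp at ho ⊢
        rw [← e1, minv g (by omega)]
        exact inv_eq_of_mul_eq_one_right (sq g hg)
      have hb11 : Nat.beq g 11 = false := Bool.eq_false_iff.2 fun h => h11 (Nat.beq_eq.mp h)
      cases hb : Nat.blt g 10 && Nat.beq (g % 2) 1 with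
      | true =>
        rw [show sub g = [g - 1] from by simp only [sub, hb11, hb, cond_false, cond_true],
          wEval_cons, wEval_nil, mul_one]
        simp only [Bool.and_eq_true, Nat.blt_eq, Nat.beq_eq] at hb
        exact hinvol g hb.1 hb.2
      | false =>
        rw [show sub g = [g] from by simp only [sub, hb11, hb, cond_false],
          wEval_cons, wEval_nil, mul_one]
  have hone : ∀ w, oneOk iv sub 12 rels4 w = true → wEval (mb x) w = 1 := fun w h =>
    one_of_oneOk minv hiv hσ (fun q hq => msat q (List.mem_append_right _ hq)) h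
  -- the action on the cosets of the part over U₃(3):2
  let C : Ctx setting twist (Big x) (Big x ⧸ Base x) := {
    el := mb x
    u := mb x 10
    p0 := ((1 : Big x) : Big x ⧸ Base x)
    valid := valid
    gens := gens
    fix := fun g hg => by
      rw [MulAction.Quotient.smul_coe, smul_eq_mul, mul_one, QuotientGroup.eq, mul_one]
      exact inv_mem (Subgroup.subset_closure ⟨⟨g, hg⟩, rfl⟩)
    twist_ok := by
      simp only [Bool.and_eq_true, Nat.beq_eq, List.all_eq_true]
      exact htok
    twist := fun i hi => by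
      have hi4 : i < 4 := hi
      by_cases h3 : i < 3
      · have h := hone _ (htw i h3)
        rw [wEval_append, wEval_append, wEval_append, wEval_invW (ng := 12) _ minv
          (by interval_cases i <;> decide)] at h
        simp only [wEval_cons, wEval_nil, mul_one, m11] at h
        exact mul_inv_eq_iff_eq_mul.1 (mul_inv_eq_one.1 h)
      · obtain rfl : i = 3 := by omega
        have h := hone _ htw3
        rw [wEval_append, wEval_append, wEval_append, wEval_append,
          wEval_invW (ng := 12) _ minv (by decide)] at h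
        simp only [wEval_cons, wEval_nil, mul_one, m11, show mb x 9 = (mb x 8)⁻¹ from
          minv 8 (by decide)] at h
        show mb x 10 * wEval (mb x) [3, 0, 4, 2] = wEval (mb x) [3, 0, 4, 2, 8] * mb x 10
        rw [show ([3, 0, 4, 2, 8] : List ℕ) = [3, 0, 4, 2] ++ [8] from rfl, wEval_append,
          wEval_cons _ 8, wEval_nil, mul_one]
        have he := hone _ (htw 2 (by decide))
        rw [wEval_append, wEval_append, wEval_append, wEval_invW (ng := 12) _ minv (by decide)] at he
        simp only [wEval_cons, wEval_nil, mul_one, m11,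
          show kgens.getD 2 [] = [8] from rfl, show kth.getD 2 [] = [8] from rfl] at he
        simp only [wEval_cons, wEval_nil, mul_one] at h ⊢
        generalize mb x 3 * (mb x 0 * (mb x 4 * mb x 2)) = w at h ⊢
        have he' : mb x 8 * mb x 10 = mb x 10 * mb x 8 :=
          (mul_inv_eq_iff_eq_mul.1 (mul_inv_eq_one.1 he)).symm
        have h' : w⁻¹ * mb x 10 * w = mb x 10 * mb x 8 := by
          rw [mul_inv_eq_one] at h
          exact mul_inv_eq_iff_eq_mul.1 h
        rw [mul_assoc w, he', ← h']
        group
    u_inv := by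
      show (mb x 10)⁻¹ = wEval (mb x) [] * mb x 10 * wEval (mb x) [0, 4]
      rw [wEval_nil, one_mul, ← m11, ← hacu]
      have hr := msat _ (List.mem_append_right _ cu)
      simp only [wEval_cons, wEval_nil, mul_one, show mb x 5 = (mb x 4)⁻¹ from minv 4 (by decide),
        show mb x 1 = (mb x 0)⁻¹ from minv 0 (by decide)] at hr ⊢
      rw [← mul_inv_rev, ← mul_assoc, mul_inv_eq_one] at hr
      rw [← mul_assoc, ← hr]
      group
    loop_ok := fun r hr => by
      rw [stepsProd_eq]
      exact hone _ (hloop r hr) }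
  have hN := C.all_sound (C.vertsOk_of hpar) hrec
  have hv1 : C.vertOf script 1 = mb x 10 • ((1 : Big x) : Big x ⧸ Base x) := by
    obtain ⟨h0, hstep⟩ := C.vertsOk_of (R := script) hpar
    have e := hstep 0 (by decide)
    rw [show script.par.getD 0 (0, 0) = (0, 1) from by decide +kernel] at e
    rw [e, h0, show decW 1 = ([] : List ℕ) from by decide +kernel, Ctx.W_nil, one_smul]
  -- the permutations identify the elements of the part over U₃(3):2
  have hinj : Function.Injective ((prT x).comp (Base x).subtype) := by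
    let f := (prT x).comp (Base x).subtype
    have hgen : Subgroup.closure (Set.range fun g : Fin 10 => mu x g) = ⊤ := by
      refine Subgroup.map_injective (Base x).subtype_injective ?_
      rw [MonoidHom.map_closure, ← MonoidHom.range_eq_map, Subgroup.range_subtype]
      congr 1
      rw [← Set.range_comp]
      exact congrArg Set.range (funext fun g => by
        show ((mu x g : Base x) : Big x) = _
        rw [mu, dif_pos g.2])
    have muinv : ∀ g < 10, mu x (g ^^^ 1) = (mu x g)⁻¹ := fun g hg => Subtype.ext (by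
      rw [Subgroup.coe_inv, mu, dif_pos (hxor10 g hg), mu, dif_pos hg]
      exact minv g (by omega))
    obtain ⟨hfin, hcard⟩ := U.U_bound (mu x) muinv (fun w hw => Subtype.ext (by
      have h10 : ltW 10 w = true := by
        have := valid.rels1 w hw
        rw [Tbl.fixAll, Bool.and_eq_true] at this
        exact this.1
      rw [mu_word x h10, msat w (List.mem_append_left _ hw)]
      rfl)) hgen
    have hlow : chainSize chain ≤ Nat.card f.range := by
      refine chain_card (T := { cosTbl with ng := 10 }) (M := Equiv.Perm (Fin cosTbl.n))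
        (mg := cosTbl.perm) ?_ (MonoidHom.id _) ?_ f.range hchain ?_
      · intro g hg
        have hg' : g < 10 := hg
        have := hT g (show g < cosTbl.ng from by show g < 12; omega)
        simp only [Tbl.letterOk, Bool.and_eq_true, Nat.blt_eq] at this ⊢
        exact ⟨hxor10 g hg', this.2⟩
      · intro g _
        rfl
      · intro L hL w hw
        have hall : ∀ L ∈ chain, ∀ w ∈ L.gens, ltW 10 w = true := by decide +kernel
        have hw10 := hall L hL w hw
        have hw12 : ltW 12 w = true := ltW_iff.2 fun g hg => by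
          have := ltW_iff.1 hw10 g hg; omega
        exact ⟨wEval (mu x) w, by
          show prT x ((wEval (mu x) w : Base x) : Big x) = _
          rw [mu_word x hw10, (mb_word x hw12).2]⟩
    rw [hsize] at hlow
    have hbij : Function.Bijective f.rangeRestrict :=
      (Nat.bijective_iff_surjective_and_card _).2 ⟨f.rangeRestrict_surjective,
        le_antisymm (hcard.trans hlow)
          (Nat.card_le_card_of_surjective _ f.rangeRestrict_surjective)⟩
    exact fun a b e => hbij.1 (Subtype.ext e)
  intro p hp
  obtain ⟨⟨⟨⟨hk, hk'⟩, hfix⟩, hsame⟩, hids⟩ := hpairs p hp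
  have hS : C.S (C.vertOf script 1) p.2.1 := by
    show C.W p.2.1 • C.vertOf script 1 = C.vertOf script 1
    rw [C.W_same hsame]
    clear hsame hfix
    generalize p.2.2 = ids at hids ⊢
    induction ids with
    | nil => simp
    | cons i l ih =>
      obtain ⟨⟨⟨⟨hi, hkind⟩, hsrc⟩, hdst⟩, hy⟩ := hids i List.mem_cons_self
      rw [List.map_cons, List.flatten_cons, C.W_append, mul_smul,
        ih fun j hj => hids j (List.mem_cons_of_mem _ hj)]
      exact C.holds_S (hN i (by simpa [Nat.blt_eq] using hi)) hkind hy hsrc hdst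
  rw [Ctx.S, hv1, MulAction.Quotient.smul_coe, MulAction.Quotient.smul_coe, smul_eq_mul,
    smul_eq_mul, mul_one, QuotientGroup.eq] at hS
  have hy : (mb x 10)⁻¹ * wEval (mb x) p.2.1 * mb x 10 ∈ Base x := by
    have e := inv_mem hS
    rwa [show ((C.W p.2.1 * mb x 10)⁻¹ * mb x 10)⁻¹ =
      (mb x 10)⁻¹ * wEval (mb x) p.2.1 * mb x 10 from by
        rw [mul_inv_rev, inv_inv, ← mul_assoc]; rfl] at e
  have hlt1 : ltW 12 p.1 = true := ltW_iff.2 fun g hg => by have := ltW_iff.1 hk g hg; omega
  have hlt2 : ltW 12 p.2.1 = true := ltW_iff.2 fun g hg => by have := ltW_iff.1 hk' g hg; omega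
  have hperm := hT.eval_eq_one hfix
  rw [wEval_append, wEval_append, wEval_append,
    wEval_invW (ng := 12) _ (fun g hg => hT.perm_xor hg) hlt1] at hperm
  simp only [wEval_cons, wEval_nil, mul_one,
    show cosTbl.perm 11 = (cosTbl.perm 10)⁻¹ from hT.perm_xor (g := 10) (by decide)] at hperm
  have key : (⟨_, hy⟩ : Base x) = wEval (mu x) p.1 := hinj (by
    show prT x ((mb x 10)⁻¹ * wEval (mb x) p.2.1 * mb x 10) =
      prT x ((wEval (mu x) p.1 : Base x) : Big x)
    rw [mu_word x hk, map_mul, map_mul, map_inv, (mb_word x hlt2).2, (mb_word x hlt1).2,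
      (pr_mb x (g := 10) (by decide)).2]
    exact mul_inv_eq_one.1 hperm)
  have e := congrArg (fun b : Base x => prH x b.1) key
  simp only [mu_word x hk, map_mul, map_inv, (mb_word x hlt2).1, (mb_word x hlt1).1,
    (pr_mb x (g := 10) (by decide)).1] at e
  rw [← e]
  group

end

end CfsgLib.ThIndex.G
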