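import Cfsg.Agent.Lib.ThIndex.UChecks
import Cfsg.Agent.Lib.ThIndex.Words
import Mathlib.Tactic.IntervalCases

/-!
# The order of a group with the relators of ³D₄(2) is at most 211341312
-/

set_option autoImplicit false
set_option maxRecDepth 100000

namespace CfsgLib.ThIndex.U

open CfsgLib.OrbitEnum

/-- The relators with s. -/
def rels2 : List (List ℕ) := [
  [10, 10, 10, 10, 10, 10, 10], [11, 1, 10, 0], [11, 3, 10, 2], [11, 5, 10, 4], [10, 6, 10, 6],
  [9, 11, 8, 10, 11, 11, 11, 9, 10, 10, 10]]

/-- The inverse letters after normalisation. -/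
def iv (g : ℕ) : ℕ := bif Nat.blt g 10 then g else g ^^^ 1

/-- The letters of involutions are made even. -/
def sub (g : ℕ) : List ℕ := bif Nat.blt g 10 && Nat.beq (g % 2) 1 then [g - 1] else [g]

/-- The inverse of s is written with d. -/
def dsd (g : ℕ) : List ℕ := bif Nat.beq g 11 then [6, 10, 6] else [g]

/-- Words for the loops, with the inverse of s as a letter. -/
def loopPre : List (List ℕ) := [
  [10, 10, 10, 10, 10, 10, 10], [8, 11, 8, 10, 8, 11, 8, 10],
  [8, 11, 8, 11, 11, 8, 10, 10, 10], [8, 11, 11, 8, 10, 10, 10, 8, 11]]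

theorem loop_words : (loops.map (stepsW 10) = loopPre.map fun w => (w.map dsd).flatten) ∧
    (loopPre.all fun w => ltW 12 w) = true ∧
    (([0, 2, 3].all fun k => oneOk iv sub 12 rels2 (loopPre.getD k [])) &&
      ([0, 1, 2].all fun i =>
        oneOk iv sub 12 rels2 ([10] ++ kgens.getD i [] ++ [11] ++ invW (kgens.getD i []))) &&
      ([[0, 0], [2, 2], [4, 4], [6, 6], [8, 8]].all fun w => upperRels.contains w) &&
      (upperRels.all fun w => ltW 10 w)) = true ∧
    (norm iv sub (loopPre.getD 1 []) = norm iv sub ([9, 11, 8, 10] ++ [9, 11, 8, 10]) ∧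
      norm iv sub ([11, 11, 11, 8, 10, 10, 10] ++ [11, 11, 11, 8, 10, 10, 10]) = [] ∧
      kth = kgens ∧ kgens = [[0], [2], [4], [6, 4, 6]]) := by
  decide +kernel

variable {H : Type} [Group H]

/-- The bound. -/
theorem H0_bound (x : ℕ → H) (hinv : ∀ g < 12, x (g ^^^ 1) = (x g)⁻¹)
    (hU : ∀ w ∈ upperRels, wEval x w = 1) (h2 : ∀ w ∈ rels2, wEval x w = 1)
    (hgen : Subgroup.closure (Set.range fun g : Fin 12 => x g) = ⊤) :
    Finite H ∧ Nat.card H ≤ 211341312 := by
  obtain ⟨hmap, hpl, hchk, hn1, hn2, hkth, hkg⟩ := loop_words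
  simp only [Bool.and_eq_true, List.all_eq_true, List.contains_iff_mem] at hchk hpl
  obtain ⟨⟨⟨hl023, htw⟩, hsq⟩, h10⟩ := hchk
  have hxor10 : ∀ g < 10, g ^^^ 1 < 10 := by decide
  have sq : ∀ g < 10, x g * x g = 1 := by
    have h : ∀ g, [g, g] ∈ ([[0, 0], [2, 2], [4, 4], [6, 6], [8, 8]] : List (List ℕ)) →
        x g * x g = 1 := fun g hg => by
      simpa [wEval_cons] using hU _ (hsq _ hg)
    have hodd : ∀ g, [g, g] ∈ ([[0, 0], [2, 2], [4, 4], [6, 6], [8, 8]] : List (List ℕ)) → g < 12 →
        x (g ^^^ 1) * x (g ^^^ 1) = 1 :=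
      fun g hm hg => by rw [hinv g hg, ← mul_inv_rev, h g hm, inv_one]
    intro g hg
    interval_cases g
    · exact h 0 (by simp)
    · exact hodd 0 (by simp) (by decide)
    · exact h 2 (by simp)
    · exact hodd 2 (by simp) (by decide)
    · exact h 4 (by simp)
    · exact hodd 4 (by simp) (by decide)
    · exact h 6 (by simp)
    · exact hodd 6 (by simp) (by decide)
    · exact h 8 (by simp)
    · exact hodd 8 (by simp) (by decide)
  have x11 : x 11 = (x 10)⁻¹ := hinv 10 (by decide)
  have hiv : ∀ g < 12, x g * x (iv g) = 1 := by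
    intro g hg
    by_cases h : g < 10
    · rw [show iv g = g from by simp [iv, show Nat.blt g 10 = true from by rw [Nat.blt_eq]; exact h]]
      exact sq g h
    · obtain rfl | rfl : g = 10 ∨ g = 11 := by omega
      · rw [show iv 10 = 11 from rfl, x11, mul_inv_cancel]
      · rw [show iv 11 = 10 from rfl, x11, inv_mul_cancel]
  have hσ : ∀ g < 12, wEval x (sub g) = x g := by
    intro g hg
    cases hb : Nat.blt g 10 && Nat.beq (g % 2) 1 with
    | false => rw [show sub g = [g] from by simp only [sub, hb, cond_false]]; simp [wEval_cons]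
    | true =>
      rw [show sub g = [g - 1] from by simp only [sub, hb, cond_true]]
      simp only [Bool.and_eq_true, Nat.blt_eq, Nat.beq_eq] at hb
      have e1 : g ^^^ 1 = g - 1 := by
        obtain ⟨hg', ho⟩ := hb
        interval_cases g <;> simp at ho ⊢
      rw [wEval_cons, wEval_nil, mul_one, ← e1, hinv g hg]
      exact inv_eq_of_mul_eq_one_right (sq g hb.1)
  have hone : ∀ w, oneOk iv sub 12 rels2 w = true → wEval x w = 1 := fun w h =>
    one_of_oneOk hinv hiv hσ h2 h
  have hnorm : ∀ {u v : List ℕ}, ltW 12 u = true → ltW 12 v = true →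
      ltW 12 (u.map sub).flatten = true → ltW 12 (v.map sub).flatten = true →
      norm iv sub u = norm iv sub v → wEval x u = wEval x v := fun a b c d e => by
    rw [← wEval_norm hiv hσ a c, e, wEval_norm hiv hσ b d]
  have hd : x 10 * x 6 * (x 10 * x 6) = 1 := by
    simpa [wEval_cons, mul_assoc] using h2 [10, 6, 10, 6] (by simp [rels2])
  have hd6 := sq 6 (by decide)
  have hdsd : x 6 * x 10 * x 6 = x 11 := by
    rw [x11]
    refine eq_inv_of_mul_eq_one_right ?_
    rw [← hd]
    group
  have hsub : ∀ g < 12, wEval x (dsd g) = x g := by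
    intro g hg
    cases hb : Nat.beq g 11 with
    | true =>
      rw [Nat.beq_eq] at hb
      subst hb
      simpa [dsd, wEval_cons, mul_assoc] using hdsd
    | false => simp [dsd, hb, wEval_cons]
  have hL1 : wEval x ([9, 11, 8, 10] ++ [9, 11, 8, 10]) = 1 := by
    have hr := h2 [9, 11, 8, 10, 11, 11, 11, 9, 10, 10, 10] (by simp [rels2])
    have h9 : x 9 = x 8 := by
      rw [show x 9 = (x 8)⁻¹ from hinv 8 (by decide)]
      exact inv_eq_of_mul_eq_one_right (sq 8 (by decide))
    have e : wEval x [9, 11, 8, 10] = wEval x [11, 11, 11, 8, 10, 10, 10] := by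
      simp only [wEval_cons, wEval_nil, mul_one, h9, x11] at hr ⊢
      have h8 : (x 8)⁻¹ = x 8 := inv_eq_of_mul_eq_one_right (sq 8 (by decide))
      have e1 : x 8 * ((x 10)⁻¹ * (x 8 * x 10)) =
          ((x 10)⁻¹ * ((x 10)⁻¹ * ((x 10)⁻¹ * (x 8 * (x 10 * (x 10 * x 10))))))⁻¹ :=
        eq_inv_of_mul_eq_one_left (by simpa only [mul_assoc] using hr)
      rw [e1]
      simp only [mul_inv_rev, inv_inv, h8, mul_assoc]
    rw [wEval_append, e, ← wEval_append, ← wEval_norm hiv hσ (by decide) (by decide), hn2, wEval_nil]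
  let Ub : Subgroup H := Subgroup.closure (Set.range fun g : Fin 10 => x g)
  have gens : setting.Gens x :=
    ⟨fun g hg => hinv g (lt_trans (hg : g < 10) (by decide)), hU⟩
  let C : Ctx setting twist H (H ⧸ Ub) := {
    el := x
    u := x 10
    p0 := ((1 : H) : H ⧸ Ub)
    valid := valid
    gens := gens
    fix := fun g hg => by
      rw [MulAction.Quotient.smul_coe, smul_eq_mul, mul_one, QuotientGroup.eq, mul_one]
      exact inv_mem (Subgroup.subset_closure ⟨⟨g, hg⟩, rfl⟩)
    twist_ok := by decide +kernel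
    twist := fun i hi => by
      have hi4 : i < 4 := hi
      show x 10 * wEval x (kgens.getD i []) = wEval x (kth.getD i []) * x 10
      rw [hkth]
      by_cases h3 : i < 3
      · have h := hone _ (htw i (by interval_cases i <;> simp))
        rw [wEval_append, wEval_append, wEval_append, wEval_invW (ng := 12) _ hinv
          (by rw [hkg]; interval_cases i <;> decide)] at h
        simp only [wEval_cons, wEval_nil, mul_one, x11] at h
        exact mul_inv_eq_iff_eq_mul.1 (mul_inv_eq_one.1 h)
      · obtain rfl : i = 3 := by omega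
        rw [hkg]
        show x 10 * wEval x [6, 4, 6] = wEval x [6, 4, 6] * x 10
        simp only [wEval_cons, wEval_nil, mul_one]
        have hc : x 11 * x 4 * x 10 = x 4 := by
          have := h2 [11, 5, 10, 4] (by simp [rels2])
          simp only [wEval_cons, wEval_nil, mul_one] at this
          rw [show x 5 = (x 4)⁻¹ from hinv 4 (by decide),
            inv_eq_of_mul_eq_one_right (sq 4 (by decide))] at this
          rw [← mul_assoc, ← mul_assoc] at this
          rw [mul_eq_one_iff_eq_inv.1 this, inv_eq_of_mul_eq_one_right (sq 4 (by decide))]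
        have h1 : x 10 * x 6 = x 6 * x 11 := by
          rw [← hdsd, ← mul_assoc, ← mul_assoc, hd6, one_mul]
        have h2' : x 11 * x 6 = x 6 * x 10 := by
          rw [← hdsd, mul_assoc, hd6, mul_one]
        calc x 10 * (x 6 * (x 4 * x 6)) = x 6 * (x 11 * x 4 * x 10) * (x 10)⁻¹ * x 6 := by
              rw [← mul_assoc (x 10), h1]; group
          _ = x 6 * x 4 * (x 11 * x 6) := by rw [hc, ← x11]; group
          _ = x 6 * (x 4 * x 6) * x 10 := by rw [h2']; group
    u_inv := by
      show (x 10)⁻¹ = wEval x [6] * x 10 * wEval x [6]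
      simp only [wEval_cons, wEval_nil, mul_one]
      rw [hdsd, x11]
    loop_ok := fun r hr => by
      rw [stepsProd_eq]
      have hm : stepsW 10 r ∈ loopPre.map fun w => (w.map dsd).flatten :=
        hmap ▸ List.mem_map_of_mem hr
      obtain ⟨w, hw, e⟩ := List.mem_map.1 hm
      rw [← e, wEval_subst fun g hg => hsub g (ltW_iff.1 (hpl w hw) g hg)]
      simp only [loopPre, List.mem_cons, List.not_mem_nil, or_false] at hw
      rcases hw with rfl | rfl | rfl | rfl
      · exact hone _ (hl023 0 (by simp))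
      · exact (hnorm (by decide) (by decide) (by decide) (by decide) hn1).trans hL1
      · exact hone _ (hl023 2 (by simp))
      · exact hone _ (hl023 3 (by simp)) }
  obtain ⟨hUfin, hUcard⟩ : Finite Ub ∧ Nat.card Ub ≤ 12096 := by
    let y : ℕ → Ub := fun g => if h : g < 10 then ⟨x g, Subgroup.subset_closure ⟨⟨g, h⟩, rfl⟩⟩ else 1
    have hy : ∀ g < 10, (y g : H) = x g := fun g hg => by
      show ((if h : g < 10 then (⟨x g, _⟩ : Ub) else 1 : Ub) : H) = x g
      rw [dif_pos hg]
    refine U_bound y (fun g hg => Subtype.ext ?_) (fun w hw => Subtype.ext ?_) ?_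
    · rw [Subgroup.coe_inv, hy g hg, hy _ (hxor10 g hg), hinv g (by omega)]
    · show Ub.subtype (wEval y w) = 1
      rw [map_wEval]
      exact (wEval_congr _ (h10 w hw) fun g hg => hy g hg).trans (hU w hw)
    · refine Subgroup.map_injective Ub.subtype_injective ?_
      rw [MonoidHom.map_closure, ← MonoidHom.range_eq_map, Subgroup.range_subtype]
      congr 1
      rw [← Set.range_comp]
      exact congrArg Set.range (funext fun g => hy g.1 g.2)
  have hrec := recs_ok
  have htab := tab_ok
  simp only [Bool.and_eq_true, List.all_eq_true, List.mem_range, Nat.beq_eq] at hrec htab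
  obtain ⟨hsum, hal0, hlen⟩ := sizes_sum
  have hN := C.all_sound (C.vertsOk_of hrec.1) hrec.2
  have htable := C.table_of (al := alive) (tab := tab) (nv := 23) hrec.1 hrec.2
    (fun i hi => (htab i hi).1.1) (fun i hi e he => (htab i hi).1.2 e he)
  have hgen' : Subgroup.closure (insert C.u (Set.range fun g : Fin setting.ng => C.el g)) = ⊤ := by
    rw [eq_top_iff, ← hgen, Subgroup.closure_le]
    rintro _ ⟨g, rfl⟩
    by_cases hg : g.1 < 10
    · exact Subgroup.subset_closure (Set.mem_insert_of_mem _ ⟨⟨g, hg⟩, rfl⟩)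
    · have h1 : x 10 ∈ Subgroup.closure (insert C.u (Set.range fun g : Fin setting.ng => C.el g)) :=
        Subgroup.subset_closure (Set.mem_insert _ _)
      have hg' : g.1 = 10 ∨ g.1 = 11 := by omega
      rcases hg' with e | e <;> show x g.1 ∈ _ <;> rw [e]
      · exact h1
      · rw [x11]; exact inv_mem h1
  obtain ⟨hXfin, hXcard⟩ := C.card_le (C.table_closed htable)
    (by
      show C.vertOf script (alive.getD 0 0) = C.p0
      rw [show alive.getD 0 0 = 0 from by decide +kernel]
      exact (C.vertsOk_of hrec.1).1)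
    (by decide) hgen' (sz := fun j => sizes.getD j 0) fun j hj =>
      C.orbit_le hN (l := stabs.getD j []) (by
        simp only [Bool.and_eq_true, Nat.beq_eq]
        exact ⟨(htab j hj).2.1, (htab j hj).2.2⟩)
  have hX : Ub.index ≤ 17472 := by
    refine hXcard.trans (le_of_eq ?_)
    rw [← hsum]
    decide +kernel
  have hH : Finite H := Finite.of_equiv _ (Subgroup.groupEquivQuotientProdSubgroup (s := Ub)).symm
  refine ⟨hH, ?_⟩
  rw [← Ub.index_mul_card]
  calc Ub.index * Nat.card Ub ≤ 17472 * 12096 := Nat.mul_le_mul hX hUcard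
    _ = 211341312 := by norm_num

end CfsgLib.ThIndex.U
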