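import Cfsg.Agent.Lib.ThIndex.H0Bound
import Mathlib.Tactic.FinCases

/-!
# The order of a group with the relators of ³D₄(2):3 is at most 634023936
-/

set_option autoImplicit false

namespace CfsgLib.ThIndex.H

open CfsgLib.OrbitEnum

/-- The relators with t. -/
def rels3 : List (List ℕ) := [
  [12, 12, 12], [13, 1, 12, 0], [13, 3, 12, 2], [13, 5, 12, 4], [13, 7, 12, 6], [13, 9, 12, 8],
  [13, 10, 12, 11, 11]]

/-- All relators on a, b, c, d, e, s, t. -/
def relsH : List (List ℕ) := U.upperRels ++ U.rels2 ++ rels3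

theorem lt12 : ((U.upperRels ++ U.rels2).all fun w => ltW 12 w) = true := by decide +kernel

theorem xor_lt : (∀ g < 12, g ^^^ 1 < 12) ∧ ∀ g < 14, g ^^^ 1 < 14 := by decide +kernel

variable {G : Type} [Group G] (x : ℕ → G)

/-- The part without t. -/
abbrev part : Subgroup G := Subgroup.closure (Set.range fun g : Fin 12 => x g)

/-- Conjugation by t keeps the part without t. -/
theorem conj_mem (hinv : ∀ g < 14, x (g ^^^ 1) = (x g)⁻¹) (hrel : ∀ w ∈ rels3, wEval x w = 1) :
    ∀ h ∈ part x, x 12 * h * (x 12)⁻¹ ∈ part x := by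
  have ht3 : x 12 * x 12 * x 12 = 1 := by
    simpa [wEval_cons, mul_assoc] using hrel [12, 12, 12] (by simp [rels3])
  have x13 : x 13 = (x 12)⁻¹ := hinv 12 (by decide)
  have hfix : ∀ g, g < 12 → [13, g ^^^ 1, 12, g] ∈ rels3 → x 12 * x g * (x 12)⁻¹ = x g := by
    intro g hg hm
    have h := hrel _ hm
    simp only [wEval_cons, wEval_nil, mul_one, x13, hinv g (by omega)] at h
    have h' : x g * x 12 = x 12 * x g := by
      calc x g * x 12 = x g * x 12 * ((x 12)⁻¹ * ((x g)⁻¹ * (x 12 * x g))) := by rw [h, mul_one]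
        _ = x 12 * x g := by group
    rw [← h']; group
  intro h hh
  suffices part x ≤ (part x).comap (MulAut.conj (x 12)).toMonoidHom from this hh
  rw [part, Subgroup.closure_le]
  rintro _ ⟨g, rfl⟩
  show x 12 * x g * (x 12)⁻¹ ∈ part x
  have hmem : ∀ k, k < 12 → x k ∈ part x := fun k hk => Subgroup.subset_closure ⟨⟨k, hk⟩, rfl⟩
  have heven : ∀ g, g < 12 → g % 2 = 0 → x 12 * x g * (x 12)⁻¹ ∈ part x := by
    intro g hg he
    by_cases h10 : g = 10
    · subst h10
      have h := hrel [13, 10, 12, 11, 11] (by simp [rels3])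
      simp only [wEval_cons, wEval_nil, mul_one, x13,
        show x 11 = (x 10)⁻¹ from hinv 10 (by decide)] at h
      have e2 : (x 12)⁻¹ * x 10 * x 12 = x 10 * x 10 := by
        refine mul_inv_eq_one.1 ?_
        rw [← h]; group
      have e0 : (x 12)⁻¹ * (x 12)⁻¹ = x 12 := by
        rw [← mul_inv_rev]
        exact inv_eq_of_mul_eq_one_right ht3
      have e1 : x 12 * x 12 = (x 12)⁻¹ := (inv_eq_of_mul_eq_one_left ht3).symm ▸ rfl
      have e : x 12 * x 10 * (x 12)⁻¹ = x 10 * x 10 * (x 10 * x 10) := by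
        calc x 12 * x 10 * (x 12)⁻¹
            = (x 12)⁻¹ * (x 12)⁻¹ * x 10 * (x 12 * x 12) := by rw [e0, e1]
          _ = (x 12)⁻¹ * ((x 12)⁻¹ * x 10 * x 12) * x 12 := by group
          _ = (x 12)⁻¹ * (x 10 * x 10) * x 12 := by rw [e2]
          _ = (x 12)⁻¹ * x 10 * x 12 * ((x 12)⁻¹ * x 10 * x 12) := by group
          _ = _ := by rw [e2]
      rw [e]
      exact mul_mem (mul_mem (hmem 10 (by decide)) (hmem 10 (by decide)))
        (mul_mem (hmem 10 (by decide)) (hmem 10 (by decide)))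
    · rw [hfix g hg ?_]
      · exact hmem g hg
      · obtain rfl | rfl | rfl | rfl | rfl : g = 0 ∨ g = 2 ∨ g = 4 ∨ g = 6 ∨ g = 8 := by omega
        all_goals decide +kernel
  obtain ⟨g, hg⟩ := g
  rcases Nat.mod_two_eq_zero_or_one g with he | ho
  · exact heven g hg he
  · have e : g = (g - 1) ^^^ 1 := by
      obtain rfl | rfl | rfl | rfl | rfl | rfl :
        g = 1 ∨ g = 3 ∨ g = 5 ∨ g = 7 ∨ g = 9 ∨ g = 11 := by omega
      all_goals decide +kernel
    show x 12 * x g * (x 12)⁻¹ ∈ part x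
    rw [e, hinv (g - 1) (by omega), ← conj_inv]
    exact inv_mem (heven (g - 1) (by omega) (by omega))

/-- The bound for the part without t. -/
theorem part_bound (hinv : ∀ g < 14, x (g ^^^ 1) = (x g)⁻¹)
    (hrel : ∀ w ∈ U.upperRels ++ U.rels2, wEval x w = 1) :
    Finite (part x) ∧ Nat.card (part x) ≤ 211341312 := by
  let y : ℕ → part x := fun g =>
    if h : g < 12 then ⟨x g, Subgroup.subset_closure ⟨⟨g, h⟩, rfl⟩⟩ else 1
  have hy : ∀ g < 12, (y g : G) = x g := fun g hg => by
    show ((if h : g < 12 then (⟨x g, _⟩ : part x) else 1 : part x) : G) = x g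
    rw [dif_pos hg]
  have hlt := List.all_eq_true.1 lt12
  have hw : ∀ w ∈ U.upperRels ++ U.rels2, wEval y w = 1 := fun w hw => Subtype.ext (by
    show (part x).subtype (wEval y w) = 1
    rw [map_wEval]
    exact (wEval_congr _ (hlt w hw) fun g hg => hy g hg).trans (hrel w hw))
  refine U.H0_bound y (fun g hg => Subtype.ext ?_) (fun w h => hw w (List.mem_append_left _ h))
    (fun w h => hw w (List.mem_append_right _ h)) ?_
  · rw [Subgroup.coe_inv, hy g hg, hy _ (xor_lt.1 g hg), hinv g (by omega)]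
  · refine Subgroup.map_injective (part x).subtype_injective ?_
    rw [MonoidHom.map_closure, ← MonoidHom.range_eq_map, Subgroup.range_subtype]
    congr 1
    rw [← Set.range_comp]
    exact congrArg Set.range (funext fun g => hy g.1 g.2)

/-- The bound. -/
theorem H_bound (hinv : ∀ g < 14, x (g ^^^ 1) = (x g)⁻¹) (hrel : ∀ w ∈ relsH, wEval x w = 1)
    (hgen : Subgroup.closure (Set.range fun g : Fin 14 => x g) = ⊤) :
    Finite G ∧ Nat.card G ≤ 634023936 := by
  have h3 : ∀ w ∈ rels3, wEval x w = 1 := fun w hw => hrel w (List.mem_append_right _ hw)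
  obtain ⟨hfin, hcard⟩ := part_bound x hinv fun w hw => hrel w (List.mem_append_left _ hw)
  have ht3 : x 12 * x 12 * x 12 = 1 := by
    simpa [wEval_cons, mul_assoc] using h3 [12, 12, 12] (by simp [rels3])
  let f : part x × Fin 3 → G := fun p => p.1.1 * x 12 ^ (p.2 : ℕ)
  have hh : ∀ k < 12, ∀ q ∈ Set.range f, x k * q ∈ Set.range f := by
    rintro k hk _ ⟨⟨h, i⟩, rfl⟩
    exact ⟨(⟨x k, Subgroup.subset_closure ⟨⟨k, hk⟩, rfl⟩⟩ * h, i), by simp [f, mul_assoc]⟩
  have ht : ∀ q ∈ Set.range f, x 12 * q ∈ Set.range f := by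
    rintro _ ⟨⟨h, i⟩, rfl⟩
    refine ⟨(⟨x 12 * h.1 * (x 12)⁻¹, conj_mem x hinv h3 h.1 h.2⟩, i + 1), ?_⟩
    simp only [f]
    have e : x 12 ^ ((i + 1 : Fin 3) : ℕ) = x 12 * x 12 ^ (i : ℕ) := by
      fin_cases i <;> simp [pow_succ, ← mul_assoc, ht3]
    rw [e]
    group
  have hall : ∀ g : G, ∀ q ∈ Set.range f, g * q ∈ Set.range f := by
    intro g
    induction (hgen.symm ▸ Subgroup.mem_top g :
        g ∈ Subgroup.closure (Set.range fun g : Fin 14 => x g))
      using Subgroup.closure_induction'' with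
    | mem y hy =>
      obtain ⟨⟨k, hk⟩, rfl⟩ := hy
      intro q hq
      by_cases h : k < 12
      · exact hh k h q hq
      · obtain rfl | rfl : k = 12 ∨ k = 13 := by omega
        · exact ht q hq
        · show x 13 * q ∈ _
          rw [show x 13 = x 12 * x 12 from (hinv 12 (by decide)).trans
            (inv_eq_of_mul_eq_one_right (by rw [← mul_assoc]; exact ht3)), mul_assoc]
          exact ht _ (ht q hq)
    | inv_mem y hy =>
      obtain ⟨⟨k, hk⟩, rfl⟩ := hy
      intro q hq
      show (x k)⁻¹ * q ∈ _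
      by_cases h : k < 12
      · rw [← hinv k hk]
        exact hh _ (xor_lt.1 k h) q hq
      · obtain rfl | rfl : k = 12 ∨ k = 13 := by omega
        · rw [inv_eq_of_mul_eq_one_right (show x 12 * (x 12 * x 12) = 1 by
            rw [← mul_assoc]; exact ht3), mul_assoc]
          exact ht _ (ht q hq)
        · rw [show x 13 = (x 12)⁻¹ from hinv 12 (by decide), inv_inv]
          exact ht q hq
    | one => intro q hq; rwa [one_mul]
    | mul y z _ _ ey ez => intro q hq; rw [mul_assoc]; exact ey _ (ez _ hq)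
  have hsurj : Function.Surjective f := fun g => by
    obtain ⟨p, hp⟩ := hall g 1 ⟨(1, 0), by simp [f]⟩
    exact ⟨p, by rw [hp, mul_one]⟩
  refine ⟨Finite.of_surjective f hsurj, (Nat.card_le_card_of_surjective f hsurj).trans ?_⟩
  rw [Nat.card_prod, Nat.card_fin]
  omega

end CfsgLib.ThIndex.H
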