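import Cfsg.Agent.Lib.ThIndex.HBound
import Cfsg.Agent.Lib.ThIndex.GWord
import Cfsg.Agent.Lib.ThIndex.ThData
import Cfsg.Agent.Lib.ThRep.Rep

/-!
# The presented Thompson group: letters, twist and loops

The letters a, a⁻¹, b, b⁻¹, ... are numbered from 0; u is 14 and its inverse 15.
-/

set_option autoImplicit false
set_option maxRecDepth 100000

namespace CfsgLib.ThIndex

open CfsgLib.OrbitEnum Cfsg.Spor CfsgLib.ThRep

/-- The generator of a pair of letters. -/
def genOf : ℕ → Th.Gen
  | 0 => .a
  | 1 => .b
  | 2 => .c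
  | 3 => .d
  | 4 => .e
  | 5 => .s
  | 6 => .t
  | _ => .u

/-- The element of a letter. -/
def letter (g : ℕ) : Th :=
  bif Nat.beq (g % 2) 0 then PresentedGroup.of (genOf (g / 2))
  else (PresentedGroup.of (genOf (g / 2)))⁻¹

/-- The relators as words in letters. -/
def words : List (List ℕ) := Th.extra.map fun r => r.toWord.map sylLetter

theorem letter_inv : ∀ g < 16, letter (g ^^^ 1) = (letter g)⁻¹ := by
  intro g hg
  interval_cases g <;> first | rfl | exact (inv_inv _).symm

theorem letter_syl (p : Th.Gen × Bool) :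
    letter (sylLetter p) = PresentedGroup.mk thRels (FreeGroup.mk [p]) := by
  obtain ⟨y, b⟩ := p
  cases b
  · rw [show FreeGroup.mk [(y, false)] = (FreeGroup.of y)⁻¹ from rfl, map_inv]
    cases y <;> rfl
  · rw [show FreeGroup.mk [(y, true)] = FreeGroup.of y from rfl]
    cases y <;> rfl

theorem wEval_syl (L : List (Th.Gen × Bool)) :
    wEval letter (L.map sylLetter) = PresentedGroup.mk thRels (FreeGroup.mk L) := by
  induction L with
  | nil => rw [← FreeGroup.one_eq_mk, map_one, List.map_nil, wEval_nil]
  | cons p L ih =>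
    rw [List.map_cons, wEval_cons, ih, show FreeGroup.mk (p :: L) = FreeGroup.mk [p] * FreeGroup.mk L
      from rfl, map_mul, letter_syl]

theorem word_rel {w : List ℕ} (hw : w ∈ words) : wEval letter w = 1 := by
  obtain ⟨r, hr, rfl⟩ := List.mem_map.1 hw
  rw [wEval_syl, FreeGroup.mk_toWord]
  exact PresentedGroup.one_of_mem (Or.inr hr)

/-- The inverse letters after normalisation. -/
def iv (g : ℕ) : ℕ := bif Nat.blt g 10 then g else g ^^^ 1

/-- The substitution. -/
def sub (g : ℕ) : List ℕ :=
  bif Nat.beq g 15 then [0, 4, 14] else bif Nat.blt g 10 && Nat.beq (g % 2) 1 then [g - 1] else [g]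

/-- The map from the letters of G₂(3):2. -/
def up (g : ℕ) : ℕ := bif Nat.blt g 10 then g else g + 4

/-- The letter u written with a and c. -/
def uac (g : ℕ) : List ℕ :=
  bif Nat.beq g 15 then [0, 4, 14] else bif Nat.beq g 14 then [0, 4, 14, 5, 1] else [g]

/-- The relator of the loop given by hand. -/
def loop10 : List ℕ :=
  [0, 4, 11, 15, 10, 14, 11, 15, 10, 14, 11, 15, 10, 14, 11, 15, 10, 14]

theorem word_checks : ((H.relsH.all fun w => words.contains (red (fun g => g ^^^ 1) w) && ltW 14 w) &&
    (G.rels4.all fun w => words.contains (w.map up) && ltW 12 w) &&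
    words.contains loop10 && words.contains [14, 14, 5, 1] && words.contains [15, 12, 14, 12] &&
    words.contains [9, 11, 11, 15, 10, 10, 8, 11, 11, 14, 10, 10] &&
    ([[0, 0], [2, 2], [4, 4], [6, 6], [8, 8]].all fun w => U.upperRels.contains w) &&
    U.setting.same [0, 4, 0, 4] [] &&
    (([0, 1, 2, 3, 4, 5, 6, 7, 8, 9, 11] : List ℕ).all fun k =>
      oneOk iv sub 16 words (stepsW 14 (H.loops.getD k []))) &&
    decide (stepsW 14 (H.loops.getD 10 []) = (loop10.map uac).flatten) &&
    ((List.range 14).all fun i => let p := G.pairs.getD i ([], [], [])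
      decide (H.kgens.getD i [] = p.1 ∧ H.kth.getD i [] = p.2.1) && ltW 10 p.1 && ltW 10 p.2.1) &&
    Nat.beq H.kgens.length 16 && Nat.beq G.pairs.length 14 && Nat.beq H.loops.length 12 &&
    decide (H.kgens.getD 14 [] = [12] ∧ H.kth.getD 14 [] = [13] ∧
      H.kgens.getD 15 [] = [10, 10, 8, 11, 11] ∧ H.kth.getD 15 [] = [10, 10, 8, 11, 11])) = true := by
  decide +kernel

theorem letter_relsH : ∀ w ∈ H.relsH, wEval letter w = 1 := by
  intro w hw
  have h := word_checks
  simp only [Bool.and_eq_true, List.all_eq_true, List.contains_iff_mem] at h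
  obtain ⟨e, hlt⟩ := h.1.1.1.1.1.1.1.1.1.1.1.1.1.1 w hw
  rw [← wEval_red (iv := fun g => g ^^^ 1) fun g hg => by
    rw [letter_inv g (by have := ltW_iff.1 hlt g hg; omega), mul_inv_cancel]]
  exact word_rel e

theorem u_square : letter 14 * letter 14 = letter 0 * letter 4 := by
  have h := word_checks
  simp only [Bool.and_eq_true, List.contains_iff_mem] at h
  have e := word_rel h.1.1.1.1.1.1.1.1.1.1.1.2
  simp only [wEval_cons, wEval_nil, mul_one, show letter 5 = (letter 4)⁻¹ from letter_inv 4 (by decide),
    show letter 1 = (letter 0)⁻¹ from letter_inv 0 (by decide)] at e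
  rw [← mul_inv_rev, ← mul_assoc, mul_inv_eq_one] at e
  exact e

theorem ac_square : letter 0 * letter 4 * (letter 0 * letter 4) = 1 := by
  have h := word_checks
  simp only [Bool.and_eq_true] at h
  have gens : U.setting.Gens letter := ⟨fun g hg => letter_inv g (by
      have : g < 10 := hg
      omega), fun w hw => letter_relsH w (List.mem_append_left _ (List.mem_append_left _ hw))⟩
  have e := Setting.eq_of_same U.valid gens h.1.1.1.1.1.1.1.2
  simpa [wEval_cons, mul_assoc] using e

theorem u_inverse : (letter 14)⁻¹ = letter 0 * letter 4 * letter 14 ∧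
    (letter 14)⁻¹ = letter 14 * (letter 0 * letter 4) := by
  constructor
  · refine inv_eq_of_mul_eq_one_left ?_
    rw [mul_assoc, u_square, ac_square]
  · refine inv_eq_of_mul_eq_one_right ?_
    rw [← mul_assoc, u_square, ac_square]

/-- The twist of the table of ³D₄(2):3. -/
theorem letter_twist : ∀ i < 16,
    letter 14 * wEval letter (H.kgens.getD i []) = wEval letter (H.kth.getD i []) * letter 14 := by
  intro i hi
  have h := word_checks
  simp only [Bool.and_eq_true, List.all_eq_true, List.contains_iff_mem, List.mem_range,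
    decide_eq_true_eq, Nat.beq_eq] at h
  obtain ⟨⟨⟨⟨⟨⟨⟨⟨⟨⟨⟨⟨⟨⟨-, h4⟩, -⟩, -⟩, htu⟩, hes⟩, -⟩, -⟩, -⟩, -⟩, hpairs⟩, -⟩, hlen⟩, -⟩, hk14, hth14, hk15, hth15⟩ := h
  by_cases h14 : i < 14
  · obtain ⟨⟨⟨e1, e2⟩, l1⟩, l2⟩ := hpairs i h14
    let y : ℕ → Th := fun g => letter (up g)
    have hy : ∀ w, ltW 10 w = true → wEval y w = wEval letter w := fun w hw =>
      wEval_congr y hw fun g hg => by
        simp [y, up, show Nat.blt g 10 = true from by rw [Nat.blt_eq]; exact hg]
    have hU : ∀ w ∈ U.upperRels, wEval y w = 1 := fun w hw => by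
      have hl : ltW 10 w = true := by
        have := U.valid.rels1 w hw
        rw [Tbl.fixAll, Bool.and_eq_true] at this
        exact this.1
      rw [hy w hl]
      exact letter_relsH w (List.mem_append_left _ (List.mem_append_left _ hw))
    have hinv : ∀ g < 12, y (g ^^^ 1) = (y g)⁻¹ := by
      intro g hg
      interval_cases g <;> first | rfl | exact (inv_inv _).symm
    have h4' : ∀ w ∈ G.rels4, wEval y w = 1 := fun w hw => by
      have := word_rel (h4 w hw).1
      rwa [wEval, List.map_map] at this
    have hp : G.pairs.getD i ([], [], []) ∈ G.pairs := by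
      rw [List.getD_eq_getElem _ _ (hlen ▸ h14)]
      exact List.getElem_mem _
    have e := G.pair_eq y hinv hU h4' _ hp
    rw [hy _ l1, hy _ l2, ← e1, ← e2] at e
    exact e
  · obtain rfl | rfl : i = 14 ∨ i = 15 := by omega
    · have e := word_rel htu
      rw [hk14, hth14]
      simp only [wEval_cons, wEval_nil, mul_one, show letter 15 = (letter 14)⁻¹ from
        letter_inv 14 (by decide), show letter 13 = (letter 12)⁻¹ from letter_inv 12 (by decide)] at e ⊢
      calc letter 14 * letter 12 = (letter 12)⁻¹ * letter 14 *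
            ((letter 14)⁻¹ * (letter 12 * (letter 14 * letter 12))) := by group
        _ = (letter 12)⁻¹ * letter 14 := by rw [e, mul_one]
    · have e := word_rel hes
      rw [hk15, hth15]
      simp only [wEval_cons, wEval_nil, mul_one, show letter 15 = (letter 14)⁻¹ from
        letter_inv 14 (by decide), show letter 11 = (letter 10)⁻¹ from letter_inv 10 (by decide),
        show letter 9 = (letter 8)⁻¹ from letter_inv 8 (by decide)] at e ⊢
      calc letter 14 * (letter 10 * (letter 10 * (letter 8 * ((letter 10)⁻¹ * (letter 10)⁻¹))))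
          = letter 14 * (letter 10 * (letter 10 * (letter 8 * ((letter 10)⁻¹ * (letter 10)⁻¹)))) * 1 := by
            rw [mul_one]
        _ = letter 14 * (letter 10 * (letter 10 * (letter 8 * ((letter 10)⁻¹ * (letter 10)⁻¹)))) *
            ((letter 10) * (letter 10) * ((letter 8)⁻¹ * ((letter 10)⁻¹ * ((letter 10)⁻¹ *
              ((letter 14)⁻¹ * (letter 10 * (letter 10 * (letter 8 * ((letter 10)⁻¹ *
                ((letter 10)⁻¹ * (letter 14 * (letter 10 * letter 10))))))))))) *
              ((letter 10) * (letter 10))⁻¹) := by simp only [e, mul_one, mul_inv_cancel]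
        _ = _ := by group

/-- The loops hold. -/
theorem letter_loops : ∀ r ∈ H.loops, stepsProd letter (letter 14) r = 1 := by
  intro r hr
  rw [stepsProd_eq]
  have h := word_checks
  simp only [Bool.and_eq_true, List.all_eq_true, List.contains_iff_mem, decide_eq_true_eq,
    Nat.beq_eq] at h
  obtain ⟨⟨⟨⟨⟨⟨⟨⟨⟨⟨⟨⟨⟨⟨-, -⟩, hl10⟩, -⟩, -⟩, -⟩, hsq⟩, -⟩, hloops⟩, h10⟩, -⟩, -⟩, -⟩, hlen⟩, -⟩ := h
  have sq : ∀ g, [g, g] ∈ U.upperRels → letter g * letter g = 1 := fun g hg => by
    simpa [wEval_cons] using letter_relsH _ (List.mem_append_left _ (List.mem_append_left _ hg))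
  have s0 := sq 0 (hsq [0, 0] (by simp))
  have s2 := sq 2 (hsq [2, 2] (by simp))
  have s4 := sq 4 (hsq [4, 4] (by simp))
  have s6 := sq 6 (hsq [6, 6] (by simp))
  have s8 := sq 8 (hsq [8, 8] (by simp))
  have h15 : letter 15 = letter 0 * letter 4 * letter 14 :=
    (letter_inv 14 (by decide)).trans u_inverse.1
  have hinvol : ∀ g, g % 2 = 0 → g < 10 → (letter g)⁻¹ = letter g := fun g he hg => by
    refine inv_eq_of_mul_eq_one_right ?_
    obtain rfl | rfl | rfl | rfl | rfl : g = 0 ∨ g = 2 ∨ g = 4 ∨ g = 6 ∨ g = 8 := by omega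
    exacts [s0, s2, s4, s6, s8]
  have hσ : ∀ g < 16, wEval letter (sub g) = letter g := by
    intro g hg
    by_cases h : g = 15
    · subst h
      simp [sub, wEval_cons, h15, mul_assoc]
    · have hb : Nat.beq g 15 = false := Bool.eq_false_iff.2 fun e => h (Nat.beq_eq.mp e)
      cases hc : Nat.blt g 10 && Nat.beq (g % 2) 1 with
      | false => simp [sub, hb, hc, wEval_cons]
      | true =>
        rw [show sub g = [g - 1] from by simp only [sub, hb, hc, cond_false, cond_true]]
        simp only [Bool.and_eq_true, Nat.blt_eq, Nat.beq_eq] at hc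
        have e1 : g ^^^ 1 = g - 1 := by
          obtain ⟨hg', ho⟩ := hc
          interval_cases g <;> simp at ho ⊢
        have e2 : (g - 1) ^^^ 1 = g := by rw [← e1, xor_xor]
        rw [wEval_cons, wEval_nil, mul_one]
        conv_rhs => rw [← e2, letter_inv _ (by omega), hinvol _ (by omega) (by omega)]
  have hiv : ∀ g < 16, letter g * letter (iv g) = 1 := by
    intro g hg
    by_cases h : g < 10
    · rw [show iv g = g from by simp [iv, show Nat.blt g 10 = true from by rw [Nat.blt_eq]; exact h]]
      rcases Nat.mod_two_eq_zero_or_one g with he | ho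
      · conv_lhs => arg 1; rw [← hinvol g he h]
        exact inv_mul_cancel _
      · have e2 : (g - 1) ^^^ 1 = g := by
          obtain rfl | rfl | rfl | rfl | rfl : g = 1 ∨ g = 3 ∨ g = 5 ∨ g = 7 ∨ g = 9 := by omega
          all_goals decide +kernel
        rw [← e2, letter_inv _ (by omega), ← mul_inv_rev, inv_eq_one]
        conv_lhs => arg 1; rw [← hinvol (g - 1) (by omega) (by omega)]
        exact inv_mul_cancel _
    · rw [show iv g = g ^^^ 1 from by
        simp [iv, show Nat.blt g 10 = false from Bool.eq_false_iff.2 fun e => h (by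
          rwa [Nat.blt_eq] at e)], letter_inv g hg, mul_inv_cancel]
  obtain ⟨k, hk, rfl⟩ := List.getElem_of_mem hr
  rw [← List.getD_eq_getElem H.loops [] hk]
  by_cases hk10 : k = 10
  · subst hk10
    rw [h10, wEval_subst, word_rel hl10]
    intro g hg
    by_cases h : g = 15
    · subst h
      simp [uac, wEval_cons, h15, mul_assoc]
    · have hb : Nat.beq g 15 = false := Bool.eq_false_iff.2 fun e => h (Nat.beq_eq.mp e)
      by_cases h' : g = 14
      · subst h'
        rw [show uac 14 = [0, 4, 14, 5, 1] from rfl]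
        simp only [wEval_cons, wEval_nil, mul_one, show letter 5 = (letter 4)⁻¹ from
          letter_inv 4 (by decide), show letter 1 = (letter 0)⁻¹ from letter_inv 0 (by decide)]
        rw [← mul_assoc (letter 0), ← mul_assoc (letter 0 * letter 4), ← mul_inv_rev, ← u_square]
        group
      · have hb' : Nat.beq g 14 = false := Bool.eq_false_iff.2 fun e => h' (Nat.beq_eq.mp e)
        simp [uac, hb, hb', wEval_cons]
  · refine one_of_oneOk letter_inv hiv hσ (fun q hq => word_rel hq) (hloops k ?_)
    have : k < 12 := hlen ▸ hk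
    simp only [List.mem_cons, List.not_mem_nil, or_false]
    omega

end CfsgLib.ThIndex
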