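import Cfsg.Agent.Lib.ThIndex.ThSetting
import Cfsg.Agent.Lib.ThIndex.ThPointData
import Mathlib.GroupTheory.GroupAction.Blocks
import Mathlib.GroupTheory.QuotientGroup.Basic
import Mathlib.GroupTheory.Commutator.Basic
import Mathlib.Tactic.FinCases

/-!
# The model of ³D₄(2):3 on 819 points: ³D₄(2) is its only minimal normal subgroup

The stabiliser of a point is generated by a, c, d, e, s and centralises a; the action is primitive,
the conjugates of a generate, and the group is perfect.
-/

set_option autoImplicit false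
set_option maxRecDepth 100000

namespace CfsgLib.ThIndex.H

open CfsgLib.OrbitEnum

theorem point_ok : (chainOk T1 [] (top0 :: stab0Chain) &&
    Nat.beq (chainSize (top0 :: stab0Chain)) 211341312 &&
    Nat.beq (chainSize stab0Chain) 258048 && chainOk T1 [] [top0] && Nat.beq top0.pt 0 &&
    Nat.beq (top0.rows.length + 1) 819 &&
    chainOk T1 [] stab0Chain &&
    (match grow T1 top0.gens top0.rows (2 ^ 0) with
      | some m => Nat.beq m (2 ^ 819 - 1)
      | none => false) &&
    (top0.gens.all fun w => ltW 12 w) &&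
    (stab0Chain.all fun L => L.gens.all fun w => ltW 12 w) &&
    (stab0Gens.all fun w => ltW 12 w && Nat.beq (T1.img w 0) 0 &&
      stab0Gens.contains (invW w) &&
      setting.chain.length != 0 && setting.same ([0] ++ w) (w ++ [0])) &&
    ((List.range 819).all fun i => Nat.beq i 0 || stab0Gens.any fun w => !Nat.beq (T1.img w i) i) &&
    (suborbits.all fun o => Nat.blt o.1 819 &&
      match grow T1 stab0Gens o.2.1 (2 ^ o.1) with
      | some m => Nat.beq m o.2.2
      | none => false) &&
    Nat.beq (suborbits.foldr (fun o m => o.2.2 ||| m) 1) (2 ^ 819 - 1)) = true := by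
  decide +kernel

/-- The size of a union of suborbits containing the point, when it divides 819, is 1 or 819. -/
theorem union_count : ∀ b1 b2 b3 : Bool,
    let m := 1 ||| (bif b1 then (suborbits.getD 0 (0, [], 0)).2.2 else 0) |||
      (bif b2 then (suborbits.getD 1 (0, [], 0)).2.2 else 0) |||
      (bif b3 then (suborbits.getD 2 (0, [], 0)).2.2 else 0)
    let c := (List.range 819).countP fun i => m.testBit i
    819 % c = 0 → c = 1 ∨ c = 819 := by
  decide +kernel

theorem suborbits_length : suborbits.length = 3 ∧ 0 < chainSize stab0Chain := by decide +kernel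

theorem cd_word : [0, 7, 5, 7, 5, 7, 5, 7, 5] ∈ U.upperRels ∧
    [0, 2, 0, 2, 0, 2] ∈ U.upperRels ∧ [2, 4, 2, 4, 2, 4] ∈ U.upperRels ∧
    [6, 8, 6, 8, 6, 8] ∈ U.upperRels ∧
    ((List.replicate 8 [2, 4, 6, 8]).flatten) ∈ U.upperRels ∧
    [0, 0] ∈ U.upperRels ∧ [2, 2] ∈ U.upperRels ∧ [4, 4] ∈ U.upperRels ∧ [6, 6] ∈ U.upperRels ∧
    [8, 8] ∈ U.upperRels := by
  simp only [U.upperRels, List.mem_cons, List.not_mem_nil, or_false, true_or, or_true, and_self,
    List.replicate, List.flatten_cons, List.flatten_nil, List.cons_append, List.nil_append]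

section Trivial

variable {H : Type*} [Group H] {y : ℕ → H}

/-- A quotient of ³D₄(2) in which a is trivial is trivial. -/
theorem all_one (hinv : ∀ g < 12, y (g ^^^ 1) = (y g)⁻¹)
    (hrel : ∀ w ∈ U.upperRels ++ U.rels2, wEval y w = 1) (h0 : y 0 = 1) : ∀ g < 12, y g = 1 := by
  obtain ⟨-, hab, hbc, hde, h8, s0, s2, s4, s6, s8⟩ := cd_word
  have hU : ∀ w ∈ U.upperRels, wEval y w = 1 := fun w hw => hrel w (List.mem_append_left _ hw)
  have q2 : y 2 * y 2 = 1 := by simpa [wEval_cons] using hU _ s2
  have q4 : y 4 * y 4 = 1 := by simpa [wEval_cons] using hU _ s4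
  have q6 : y 6 * y 6 = 1 := by simpa [wEval_cons] using hU _ s6
  have q8 : y 8 * y 8 = 1 := by simpa [wEval_cons] using hU _ s8
  have b1 : y 2 = 1 := by
    have := hU _ hab
    simp only [wEval_cons, wEval_nil, mul_one, h0, one_mul] at this
    rwa [q2, mul_one] at this
  have c1 : y 4 = 1 := by
    have := hU _ hbc
    simp only [wEval_cons, wEval_nil, mul_one, b1, one_mul] at this
    rwa [q4, mul_one] at this
  have p3 : (y 6 * y 8) ^ 3 = 1 := by
    simpa [wEval_cons, pow_succ, mul_assoc] using hU _ hde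
  have p8 : (y 6 * y 8) ^ 8 = 1 := by
    have := hU _ h8
    simpa [wEval_cons, b1, c1, pow_succ, mul_assoc] using this
  have de : y 6 * y 8 = 1 := by
    have h9 : (y 6 * y 8) ^ 9 = 1 := by rw [show 9 = 3 * 3 from rfl, pow_mul, p3, one_pow]
    rwa [pow_succ, p8, one_mul] at h9
  have e6 : y 8 = y 6 :=
    (inv_eq_of_mul_eq_one_right de).symm.trans (inv_eq_of_mul_eq_one_right q6)
  have x11 : y 11 = (y 10)⁻¹ := hinv 10 (by decide)
  have x9 : y 9 = y 6 := by
    rw [show y 9 = (y 8)⁻¹ from hinv 8 (by decide), e6]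
    exact inv_eq_of_mul_eq_one_right q6
  have hsd : y 10 * y 6 * (y 10 * y 6) = 1 := by
    have := hrel [10, 6, 10, 6] (List.mem_append_right _ (by simp [U.rels2]))
    simpa [wEval_cons, mul_assoc] using this
  have h7 : y 10 ^ 7 = 1 := by
    have := hrel [10, 10, 10, 10, 10, 10, 10] (List.mem_append_right _ (by simp [U.rels2]))
    simpa [wEval_cons, pow_succ, mul_assoc] using this
  have hes := hrel [9, 11, 8, 10, 11, 11, 11, 9, 10, 10, 10]
    (List.mem_append_right _ (by simp [U.rels2]))
  simp only [wEval_cons, wEval_nil, mul_one, x9, x11, e6] at hes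
  have hflip : y 6 * (y 10)⁻¹ * y 6 = y 10 := by
    have h := inv_eq_of_mul_eq_one_right q6
    have : y 10 * y 6 = y 6 * (y 10)⁻¹ := by
      rw [eq_inv_of_mul_eq_one_left hsd, mul_inv_rev, h]
    rw [← this, mul_assoc, q6, mul_one]
  have h1 : y 10 * y 10 * ((y 10)⁻¹ * (y 10)⁻¹ * (y 10)⁻¹ * y 6) * (y 10 * y 10 * y 10) = 1 := by
    rw [← hes]
    calc _ = y 6 * (y 10)⁻¹ * y 6 * y 10 * ((y 10)⁻¹ * (y 10)⁻¹ * (y 10)⁻¹ * y 6) *
          (y 10 * y 10 * y 10) := by rw [hflip]
      _ = _ := by group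
  rw [show (y 10 * y 10 * ((y 10)⁻¹ * (y 10)⁻¹ * (y 10)⁻¹ * y 6) * (y 10 * y 10 * y 10)) =
    (y 10)⁻¹ * (y 6 * y 10 ^ 3) from by
      simp only [pow_succ, pow_zero, one_mul]; group, inv_mul_eq_one] at h1
  have hd : y 6 = (y 10 ^ 2)⁻¹ := by rw [eq_mul_inv_of_mul_eq h1.symm]; group
  have e4 : y 10 ^ 4 = 1 := by
    have h := q6
    rw [hd, ← mul_inv_rev, inv_eq_one, ← pow_add] at h
    exact h
  have s1 : y 10 = 1 := by
    have e8 : y 10 ^ 8 = 1 := by rw [show 8 = 4 * 2 from rfl, pow_mul, e4, one_pow]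
    rwa [pow_succ, h7, one_mul] at e8
  have d1 : y 6 = 1 := by rw [hd, s1, one_pow, inv_one]
  intro g hg
  have odd : ∀ k, k < 12 → y k = 1 → y (k ^^^ 1) = 1 := fun k hk e => by rw [hinv k hk, e, inv_one]
  interval_cases g
  · exact h0
  · exact odd 0 (by decide) h0
  · exact b1
  · exact odd 2 (by decide) b1
  · exact c1
  · exact odd 4 (by decide) c1
  · exact d1
  · exact odd 6 (by decide) d1
  · rw [e6]; exact d1
  · rw [x9]; exact d1
  · exact s1
  · exact odd 10 (by decide) s1

/-- A commutative quotient of ³D₄(2) is trivial. -/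
theorem all_one_of_comm (hinv : ∀ g < 12, y (g ^^^ 1) = (y g)⁻¹)
    (hrel : ∀ w ∈ U.upperRels ++ U.rels2, wEval y w = 1) (hc : y 4 * y 6 = y 6 * y 4) :
    ∀ g < 12, y g = 1 := by
  refine all_one hinv hrel ?_
  obtain ⟨hcd, -, -, -, -, -, -, s4, s6, -⟩ := cd_word
  have hU : ∀ w ∈ U.upperRels, wEval y w = 1 := fun w hw => hrel w (List.mem_append_left _ hw)
  have q4 : y 4 * y 4 = 1 := by simpa [wEval_cons] using hU _ s4
  have q6 : y 6 * y 6 = 1 := by simpa [wEval_cons] using hU _ s6
  have := hU _ hcd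
  simp only [wEval_cons, wEval_nil, mul_one, show y 7 = (y 6)⁻¹ from hinv 6 (by decide),
    show y 5 = (y 4)⁻¹ from hinv 4 (by decide), inv_eq_of_mul_eq_one_right q4,
    inv_eq_of_mul_eq_one_right q6] at this
  have e : y 6 * (y 4 * (y 6 * y 4)) = 1 := by
    rw [← mul_assoc (y 4), hc, mul_assoc (y 6), q4, mul_one, q6]
  simp only [e, mul_one] at this
  exact this

end Trivial

variable {G : Type} [Group G] (x : ℕ → G)

/-- The subgroup ³D₄(2) of the model. -/
noncomputable abbrev core : Subgroup (setting.Mg x) := part (setting.mg x)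

/-- The stabiliser of a point in it. -/
noncomputable abbrev stab : Subgroup (setting.Mg x) :=
  Subgroup.closure {m | ∃ w ∈ stab0Gens, wEval (setting.mg x) w = m}

/-- The point. -/
def q0 : Fin setting.T1.n := ⟨0, by decide⟩

variable {x}

theorem mem_core {w : List ℕ} (hw : ltW 12 w = true) : wEval (setting.mg x) w ∈ core x := by
  refine list_prod_mem fun m hm => ?_
  obtain ⟨g, hg, rfl⟩ := List.mem_map.1 hm
  exact Subgroup.subset_closure ⟨⟨g, ltW_iff.1 hw g hg⟩, rfl⟩

theorem stab_le_core : stab x ≤ core x := by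
  rw [Subgroup.closure_le]
  rintro m ⟨w, hw, rfl⟩
  have h := point_ok
  simp only [Bool.and_eq_true, List.all_eq_true] at h
  exact mem_core (h.1.1.1.2 w hw).1.1.1.1

theorem core_card (hV : setting.Valid) (hG : setting.Gens x) :
    Nat.card (core x) = 211341312 := by
  haveI := Setting.m_finite hV hG
  obtain ⟨-, hupp⟩ := part_bound (setting.mg x) (fun g hg => Setting.mg_inv hV hG g hg)
    fun w hw => Setting.m_sat hV hG w (List.mem_append_left _ hw)
  refine le_antisymm hupp ?_
  have h := point_ok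
  simp only [Bool.and_eq_true, List.all_eq_true, Nat.beq_eq] at h
  have := chain_card hV.ok1 (setting.rho1 x) (fun g hg => Setting.rho1_mg hg) (core x)
    h.1.1.1.1.1.1.1.1.1.1.1.1.1 fun L hL w hw => by
      rcases List.mem_cons.1 hL with rfl | hL
      · exact mem_core (h.1.1.1.1.1.2 w hw)
      · exact mem_core (h.1.1.1.1.2 L hL w hw)
  rwa [h.1.1.1.1.1.1.1.1.1.1.1.1.2] at this

theorem core_normal (hV : setting.Valid) (hG : setting.Gens x) : (core x).Normal := by
  have hinv : ∀ g < 14, setting.mg x (g ^^^ 1) = (setting.mg x g)⁻¹ := Setting.mg_inv hV hG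
  have h3 : ∀ w ∈ rels3, wEval (setting.mg x) w = 1 := fun w hw =>
    Setting.m_sat hV hG w (List.mem_append_right _ hw)
  have ht : setting.mg x 12 * (setting.mg x 12 * setting.mg x 12) = 1 := by
    simpa [wEval_cons] using h3 [12, 12, 12] (by simp [rels3])
  have hconj := conj_mem (setting.mg x) hinv h3
  have h12 : ∀ m : setting.Mg x, m ∈ core x →
      (setting.mg x 12)⁻¹ * m * (setting.mg x 12)⁻¹⁻¹ ∈ core x := by
    intro m hm
    have := hconj _ (hconj m hm)
    rwa [show setting.mg x 12 * (setting.mg x 12 * m * (setting.mg x 12)⁻¹) * (setting.mg x 12)⁻¹ =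
      setting.mg x 12 * setting.mg x 12 * m * (setting.mg x 12 * setting.mg x 12)⁻¹ from by group,
      ← inv_eq_of_mul_eq_one_right ht] at this
  refine ⟨fun m hm g => ?_⟩
  induction (Setting.mg_gen (el := x) ▸ Subgroup.mem_top g :
      g ∈ Subgroup.closure (Set.range fun g : Fin setting.T1.ng => setting.mg x g))
    using Subgroup.closure_induction'' generalizing m with
  | mem y hy =>
    obtain ⟨⟨k, hk⟩, rfl⟩ := hy
    have hk' : k < 14 := hk
    by_cases h : k < 12
    · have hk2 : setting.mg x k ∈ core x := Subgroup.subset_closure ⟨⟨k, h⟩, rfl⟩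
      exact mul_mem (mul_mem hk2 hm) (inv_mem hk2)
    · obtain rfl | rfl : k = 12 ∨ k = 13 := by omega
      · exact hconj m hm
      · show setting.mg x 13 * m * (setting.mg x 13)⁻¹ ∈ core x
        rw [show setting.mg x 13 = (setting.mg x 12)⁻¹ from hinv 12 (by decide)]
        exact h12 m hm
  | inv_mem y hy =>
    obtain ⟨⟨k, hk⟩, rfl⟩ := hy
    have hk' : k < 14 := hk
    by_cases h : k < 12
    · have hk2 : setting.mg x k ∈ core x := Subgroup.subset_closure ⟨⟨k, h⟩, rfl⟩
      exact mul_mem (mul_mem (inv_mem hk2) hm) (inv_mem (inv_mem hk2))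
    · obtain rfl | rfl : k = 12 ∨ k = 13 := by omega
      · exact h12 m hm
      · show (setting.mg x 13)⁻¹ * m * (setting.mg x 13)⁻¹⁻¹ ∈ core x
        rw [show setting.mg x 13 = (setting.mg x 12)⁻¹ from hinv 12 (by decide), inv_inv]
        exact hconj m hm
  | one => simpa using hm
  | mul a b _ _ ea eb =>
    rw [show a * b * m * (a * b)⁻¹ = a * (b * m * b⁻¹) * a⁻¹ from by group]
    exact ea _ (eb m hm)

theorem rho_inj (hV : setting.Valid) (hG : setting.Gens x) :
    Function.Injective (setting.rho1 x) := by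
  rw [injective_iff_map_eq_one]
  intro m hm
  have : m ∈ fixOf (setting.rho1 x) setting.base := fun p _ => by rw [hm]; rfl
  rwa [Setting.fix_base hV hG, Subgroup.mem_bot] at this

theorem img_rho (hV : setting.Valid) {w : List ℕ} (hw : ltW 12 w = true) (i : Fin setting.T1.n) :
    (((setting.rho1 x (wEval (setting.mg x) w))⁻¹ i : Fin setting.T1.n) : ℕ) = T1.img w i :=
  img_of_hom hV.ok1 (fun _ hg => Setting.rho1_mg hg)
    (ltW_iff.2 fun g hg => lt_trans (ltW_iff.1 hw g hg) (by decide)) i

theorem trans (hV : setting.Valid) : ∀ i : Fin setting.T1.n,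
    ∃ m ∈ core x, setting.rho1 x m q0 = i := by
  have h := point_ok
  simp only [Bool.and_eq_true, List.all_eq_true] at h
  have hgens := h.1.1.1.1.1.2
  have hg := h.1.1.1.1.1.1.2
  split at hg
  next mk hmk =>
    rw [Nat.beq_eq] at hg
    let P : ℕ → Prop := fun i => ∃ m ∈ core x, (setting.rho1 x m q0 : ℕ) = i
    obtain ⟨hin, -⟩ := grow_spec (T := T1) (P := P) (fun w hw p hp => by
      obtain ⟨m, hm, rfl⟩ := hp
      have hw12 := hgens w hw
      refine ⟨(wEval (setting.mg x) w)⁻¹ * m, mul_mem (inv_mem (mem_core hw12)) hm, ?_⟩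
      rw [map_mul, map_inv, Equiv.Perm.mul_apply]
      exact img_rho hV hw12 _) hmk (fun i hi => by
      rw [Nat.testBit_two_pow, decide_eq_true_eq] at hi
      subst hi
      exact ⟨1, one_mem _, by rw [map_one]; rfl⟩)
    intro i
    obtain ⟨m, hm, e⟩ := hin i.1 (by
      rw [hg, Nat.testBit_two_pow_sub_one, decide_eq_true_eq]; exact i.2)
    exact ⟨m, hm, Fin.ext e⟩
  next => simp at hg

theorem stab_fix (hV : setting.Valid) : ∀ s ∈ stab x, setting.rho1 x s q0 = q0 := by
  intro s hs
  induction hs using Subgroup.closure_induction with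
  | mem y hy =>
    obtain ⟨w, hw, rfl⟩ := hy
    have h := point_ok
    simp only [Bool.and_eq_true, List.all_eq_true, Nat.beq_eq] at h
    have hw' := h.1.1.1.2 w hw
    have e : (setting.rho1 x (wEval (setting.mg x) w))⁻¹ q0 = q0 :=
      Fin.ext ((img_rho hV hw'.1.1.1.1 q0).trans hw'.1.1.1.2)
    exact (Equiv.Perm.inv_eq_iff_eq.1 e).symm
  | one => rw [map_one]; rfl
  | mul a b _ _ ea eb => rw [map_mul, Equiv.Perm.mul_apply, eb, ea]
  | inv a _ ea => rw [map_inv, Equiv.Perm.inv_eq_iff_eq, ea]

theorem stab_eq (hV : setting.Valid) (hG : setting.Gens x) :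
    ∀ m ∈ core x, setting.rho1 x m q0 = q0 → m ∈ stab x := by
  haveI := Setting.m_finite hV hG
  have h := point_ok
  simp only [Bool.and_eq_true, List.all_eq_true, Nat.beq_eq] at h
  have hle : stab x ≤ core x ⊓ fixOf (setting.rho1 x) [0] := fun s hs =>
    ⟨stab_le_core hs, fun p hp => by
      rw [List.mem_singleton] at hp
      obtain rfl : p = q0 := Fin.ext hp
      exact stab_fix hV s hs⟩
  have hsub : ∀ L ∈ stab0Chain, ∀ w ∈ L.gens, wEval (setting.mg x) w ∈ stab x := by
    intro L hL w hw
    obtain ⟨s, rfl⟩ : ∃ s, w = expand stab0Gens s := by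
      simp only [stab0Chain, List.mem_cons, List.not_mem_nil, or_false] at hL
      rcases hL with rfl | rfl | rfl <;>
        · simp only [below0, below1, below2] at hw
          obtain ⟨s, -, rfl⟩ := List.mem_map.1 hw
          exact ⟨s, rfl⟩
    clear hw
    induction s with
    | nil => exact one_mem _
    | cons i s ih =>
      rw [show expand stab0Gens (i :: s) = stab0Gens.getD i [] ++ expand stab0Gens s from rfl,
        wEval_append]
      refine mul_mem ?_ ih
      by_cases hi : i < stab0Gens.length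
      · rw [List.getD_eq_getElem _ _ hi]
        exact Subgroup.subset_closure ⟨_, List.getElem_mem hi, rfl⟩
      · rw [List.getD_eq_default _ _ (not_lt.1 hi)]
        exact one_mem _
  have hlow := chain_card hV.ok1 (setting.rho1 x) (fun g hg => Setting.rho1_mg hg) (stab x)
    h.1.1.1.1.1.1.1.2 hsub
  rw [h.1.1.1.1.1.1.1.1.1.1.1.2] at hlow
  have hupp := chain_bound hV.ok1 (setting.rho1 x) (fun g hg => Setting.rho1_mg hg) (core x)
    h.1.1.1.1.1.1.1.1.1.1.2 fun L hL w hw => by
      rw [List.mem_singleton] at hL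
      subst hL
      exact mem_core (h.1.1.1.1.1.2 w hw)
  rw [show chainSize [top0] = 819 from by
      rw [chainSize, chainSize, mul_one, h.1.1.1.1.1.1.1.1.2],
    show chainPts [] [top0] = [0] from by
      simp [chainPts, h.1.1.1.1.1.1.1.1.1.2]] at hupp
  have htot := Subgroup.card_le_of_le (show core x ⊓ fixOf (setting.rho1 x) [] ≤ core x from inf_le_left)
  rw [core_card hV hG] at htot
  have heq := Subgroup.eq_of_le_of_card_ge hle (by omega)
  intro m hm e
  rw [heq]
  refine ⟨hm, fun p hp => ?_⟩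
  rw [List.mem_singleton] at hp
  obtain rfl : p = q0 := Fin.ext hp
  exact e

theorem stab_comm (hV : setting.Valid) (hG : setting.Gens x) :
    ∀ s ∈ stab x, setting.mg x 0 * s = s * setting.mg x 0 := by
  intro s hs
  induction hs using Subgroup.closure_induction with
  | mem y hy =>
    obtain ⟨w, hw, rfl⟩ := hy
    have h := point_ok
    simp only [Bool.and_eq_true, List.all_eq_true, Nat.beq_eq] at h
    have e := Setting.mg_eq_of_same hV hG (h.1.1.1.2 w hw).2
    simpa [wEval_append, wEval_cons] using e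
  | one => simp
  | mul a b _ _ ea eb => rw [← mul_assoc, ea, mul_assoc, eb, mul_assoc]
  | inv a _ ea => rw [eq_inv_mul_iff_mul_eq, ← mul_assoc, ← ea, mul_inv_cancel_right]

/-- The stabiliser has only one fixed point. -/
theorem only_fixed (hV : setting.Valid) {i : Fin setting.T1.n}
    (hi : ∀ s ∈ stab x, setting.rho1 x s i = i) : i = q0 := by
  have h := point_ok
  simp only [Bool.and_eq_true, List.all_eq_true, Nat.beq_eq, Bool.or_eq_true, List.any_eq_true,
    List.mem_range, Bool.not_eq_true'] at h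
  rcases h.1.1.2 i.1 i.2 with e | ⟨w, hw, hne⟩
  · exact Fin.ext e
  · exfalso
    have hw' := h.1.1.1.2 w hw
    have e := (img_rho (x := x) hV hw'.1.1.1.1 i).symm
    rw [(Equiv.Perm.inv_eq_iff_eq.2 (hi _ (Subgroup.subset_closure ⟨w, hw, rfl⟩)).symm)] at e
    rw [e] at hne
    simp at hne

/-- An invariant set through the point whose size divides 819 is trivial. -/
theorem block_trivial (hV : setting.Valid) {B : Set (Fin setting.T1.n)} (h0 : q0 ∈ B)
    (hB : ∀ s ∈ stab x, ∀ i ∈ B, setting.rho1 x s i ∈ B) (hdvd : B.ncard ∣ 819) :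
    B = {q0} ∨ B = Set.univ := by
  classical
  have h := point_ok
  simp only [Bool.and_eq_true, List.all_eq_true, Nat.beq_eq, Nat.blt_eq] at h
  have hsub := h.1.2
  have hcov := h.2
  have hgen := h.1.1.1.2
  have key : ∀ o ∈ suborbits, ∃ c : Bool, ∀ i : Fin setting.T1.n, o.2.2.testBit i = true →
      (i ∈ B ↔ c = true) := by
    intro o ho
    obtain ⟨hr, hgrow⟩ := hsub o ho
    split at hgrow
    next mk hmk =>
      rw [Nat.beq_eq] at hgrow
      subst hgrow
      refine ⟨decide ((⟨o.1, hr⟩ : Fin setting.T1.n) ∈ B), ?_⟩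
      let P : ℕ → Prop := fun j => ∃ hj : j < setting.T1.n,
        ((⟨j, hj⟩ : Fin setting.T1.n) ∈ B ↔ (⟨o.1, hr⟩ : Fin setting.T1.n) ∈ B)
      obtain ⟨hin, -⟩ := grow_spec (T := T1) (P := P) (fun w hw p hp => by
        obtain ⟨hp', hiff⟩ := hp
        obtain ⟨⟨⟨⟨hw12, -⟩, -⟩, -⟩, -⟩ := hgen w hw
        have hm : wEval (setting.mg x) w ∈ stab x := Subgroup.subset_closure ⟨w, hw, rfl⟩
        have e := img_rho (x := x) hV hw12 ⟨p, hp'⟩
        have hlt : T1.img w p < setting.T1.n := e ▸ Fin.isLt _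
        refine ⟨hlt, Iff.trans ?_ hiff⟩
        rw [show (⟨T1.img w p, hlt⟩ : Fin setting.T1.n) =
          (setting.rho1 x (wEval (setting.mg x) w))⁻¹ ⟨p, hp'⟩ from Fin.ext e.symm]
        constructor
        · intro hq
          have := hB _ hm _ hq
          rwa [Equiv.Perm.coe_inv, Equiv.apply_symm_apply] at this
        · intro hq
          have := hB _ (inv_mem hm) _ hq
          rwa [map_inv] at this) hmk (fun j hj => by
        rw [Nat.testBit_two_pow, decide_eq_true_eq] at hj
        subst hj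
        exact ⟨hr, Iff.rfl⟩)
      intro i hi
      obtain ⟨_, hiff⟩ := hin i.1 hi
      rw [decide_eq_true_eq]
      exact hiff
    next => simp at hgrow
  have hlen := suborbits_length.1
  have hget : ∀ k < 3, suborbits.getD k (0, [], 0) ∈ suborbits := fun k hk => by
    rw [List.getD_eq_getElem _ _ (hlen.symm ▸ hk)]; exact List.getElem_mem _
  obtain ⟨c1, k1⟩ := key _ (hget 0 (by decide))
  obtain ⟨c2, k2⟩ := key _ (hget 1 (by decide))
  obtain ⟨c3, k3⟩ := key _ (hget 2 (by decide))
  set m := 1 ||| (bif c1 then (suborbits.getD 0 (0, [], 0)).2.2 else 0) |||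
      (bif c2 then (suborbits.getD 1 (0, [], 0)).2.2 else 0) |||
      (bif c3 then (suborbits.getD 2 (0, [], 0)).2.2 else 0) with hm
  have hmem : ∀ i : Fin setting.T1.n, i ∈ B ↔ m.testBit i = true := by
    intro i
    have hi := i.2
    have hc := congrArg (fun z => Nat.testBit z i.1) hcov
    rw [show suborbits = [suborbits.getD 0 (0, [], 0), suborbits.getD 1 (0, [], 0),
      suborbits.getD 2 (0, [], 0)] from List.ext_getElem (by rw [hlen]; rfl) (fun k hk _ => by
        rw [hlen] at hk
        interval_cases k <;> simp [List.getD_eq_getElem?_getD, hlen])] at hc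
    simp only [List.foldr_cons, List.foldr_nil, Nat.testBit_or, Nat.testBit_two_pow_sub_one] at hc
    rw [decide_eq_true (show i.1 < 819 from hi)] at hc
    simp only [Bool.or_eq_true] at hc
    simp only [hm, Nat.testBit_or, Bool.or_eq_true]
    constructor
    · intro hB'
      rcases hc with e | e | e | e
      · rw [show c1 = true from (k1 i e).1 hB']; exact Or.inl (Or.inl (Or.inr e))
      · rw [show c2 = true from (k2 i e).1 hB']; exact Or.inl (Or.inr e)
      · rw [show c3 = true from (k3 i e).1 hB']; exact Or.inr e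
      · exact Or.inl (Or.inl (Or.inl e))
    · rintro (((e | e) | e) | e)
      · obtain rfl : i = q0 := Fin.ext (Nat.testBit_one_eq_true_iff_self_eq_zero.1 e)
        exact h0
      · cases c1
        · simp at e
        · exact (k1 i e).2 rfl
      · cases c2
        · simp at e
        · exact (k2 i e).2 rfl
      · cases c3
        · simp at e
        · exact (k3 i e).2 rfl
  have hn : B.ncard = (List.range 819).countP fun i => m.testBit i := by
    rw [List.countP_eq_length_filter, ← List.toFinset_card_of_nodup (List.nodup_range.filter _),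
      ← Set.ncard_image_of_injective B Fin.val_injective, ← Set.ncard_coe_finset]
    congr 1
    ext j
    simp only [Set.mem_image, List.coe_toFinset, List.mem_filter, List.mem_range, Set.mem_setOf_eq]
    constructor
    · rintro ⟨i, hi, rfl⟩
      exact ⟨i.2, (hmem i).1 hi⟩
    · rintro ⟨hj, hb⟩
      exact ⟨⟨j, hj⟩, (hmem _).2 hb, rfl⟩
  rcases union_count c1 c2 c3 (Nat.mod_eq_zero_of_dvd (hn ▸ hdvd)) with e | e
  · left
    rw [← hn] at e
    obtain ⟨a, ha⟩ := Set.ncard_eq_one.1 e
    rw [ha] at h0 ⊢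
    rw [show a = q0 from (Set.mem_singleton_iff.1 h0).symm]
  · right
    rw [← hn] at e
    exact Set.eq_of_subset_of_ncard_le (Set.subset_univ B)
      (by rw [Set.ncard_univ, Nat.card_fin, e]; rfl) Set.finite_univ

/-- The core is simple as a normalised subgroup. -/
theorem core_simple (hV : setting.Valid) (hG : setting.Gens x) {N : Subgroup (setting.Mg x)}
    (hle : N ≤ core x) (hnorm : ∀ m ∈ core x, ∀ n ∈ N, m * n * m⁻¹ ∈ N) (hne : N ≠ ⊥) :
    N = core x := by
  haveI := Setting.m_finite hV hG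
  let M0 := core x
  letI : MulAction M0 (Fin setting.T1.n) :=
    MulAction.compHom _ ((setting.rho1 x).comp M0.subtype)
  let N' : Subgroup M0 := N.subgroupOf M0
  haveI hN' : N'.Normal := ⟨fun n hn g => by
    show ((g * n * g⁻¹ : M0) : setting.Mg x) ∈ N
    exact hnorm g.1 g.2 n.1 hn⟩
  haveI : MulAction.IsPretransitive M0 (Fin setting.T1.n) := ⟨fun i j => by
    obtain ⟨a, ha, rfl⟩ := trans (x := x) hV i
    obtain ⟨b, hb, rfl⟩ := trans (x := x) hV j
    refine ⟨⟨b * a⁻¹, mul_mem hb (inv_mem ha)⟩, ?_⟩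
    show setting.rho1 x (b * a⁻¹) (setting.rho1 x a q0) = _
    rw [← Equiv.Perm.mul_apply, ← map_mul, inv_mul_cancel_right]⟩
  let B : Set (Fin setting.T1.n) := MulAction.orbit N' q0
  have hBlock : MulAction.IsBlock M0 B := MulAction.IsBlock.orbit_of_normal q0
  have hdvd : B.ncard ∣ 819 := by
    have := hBlock.ncard_block_mul_ncard_orbit_eq (Set.nonempty_of_mem (MulAction.mem_orbit_self q0))
    rw [show Nat.card (Fin setting.T1.n) = 819 from Nat.card_fin _] at this
    exact ⟨_, this.symm⟩
  have hinv : ∀ s ∈ stab x, ∀ i ∈ B, setting.rho1 x s i ∈ B := by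
    rintro s hs _ ⟨n, rfl⟩
    have hs' : s ∈ M0 := stab_le_core hs
    refine ⟨⟨⟨s * n.1.1 * s⁻¹, mul_mem (mul_mem hs' n.1.2) (inv_mem hs')⟩,
      hnorm s hs' n.1.1 n.2⟩, ?_⟩
    show setting.rho1 x (s * n.1.1 * s⁻¹) q0 = setting.rho1 x s (setting.rho1 x n.1.1 q0)
    rw [map_mul, map_mul, Equiv.Perm.mul_apply, Equiv.Perm.mul_apply, map_inv,
      Equiv.Perm.inv_eq_iff_eq.2 (stab_fix hV s hs).symm]
  rcases block_trivial (x := x) hV (MulAction.mem_orbit_self q0) hinv hdvd with hB | hB
  · -- N fixes the point, so every point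
    exfalso
    refine hne (Subgroup.eq_bot_iff_forall _ |>.2 fun n hn => rho_inj hV hG ?_)
    rw [map_one]
    ext i
    obtain ⟨m, hm, rfl⟩ := trans (x := x) hV i
    have h1 : m⁻¹ * n * m ∈ N := by simpa using hnorm _ (inv_mem hm) n hn
    have h2 : setting.rho1 x (m⁻¹ * n * m) q0 = q0 := by
      have hmem : (⟨⟨_, hle h1⟩, h1⟩ : N') • q0 ∈ B := MulAction.mem_orbit _ _
      have : setting.rho1 x (m⁻¹ * n * m) q0 ∈ ({q0} : Set (Fin setting.T1.n)) := hB ▸ hmem
      exact this
    rw [map_mul, map_mul, Equiv.Perm.mul_apply, Equiv.Perm.mul_apply, map_inv,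
      Equiv.Perm.inv_eq_iff_eq] at h2
    rw [h2]; rfl
  · -- every conjugate of a lies in N⟨a⟩
    refine le_antisymm hle ?_
    let a : M0 := ⟨setting.mg x 0, Subgroup.subset_closure ⟨0, rfl⟩⟩
    let J : Subgroup M0 := N' ⊔ Subgroup.zpowers a
    have hconj : ∀ g : M0, g * a * g⁻¹ ∈ J := by
      intro g
      obtain ⟨n, hn⟩ : setting.rho1 x g.1 q0 ∈ B := Set.eq_univ_iff_forall.1 hB _
      have hs : n.1⁻¹ * g ∈ (stab x).subgroupOf M0 := by
        show (n.1.1)⁻¹ * g.1 ∈ stab x
        refine stab_eq hV hG _ (mul_mem (inv_mem n.1.2) g.2) ?_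
        rw [map_mul, map_inv, Equiv.Perm.mul_apply, Equiv.Perm.inv_eq_iff_eq]
        exact hn.symm
      have e : n.1⁻¹ * g * a * (n.1⁻¹ * g)⁻¹ = a := Subtype.ext (by
        show (n.1.1)⁻¹ * g.1 * setting.mg x 0 * ((n.1.1)⁻¹ * g.1)⁻¹ = setting.mg x 0
        rw [← stab_comm hV hG ((n.1.1)⁻¹ * g.1) hs, mul_inv_cancel_right])
      rw [show g * a * g⁻¹ = n.1 * (n.1⁻¹ * g * a * (n.1⁻¹ * g)⁻¹) * n.1⁻¹ from by group, e]
      exact mul_mem (mul_mem (Subgroup.mem_sup_left n.2)
        (Subgroup.mem_sup_right (Subgroup.mem_zpowers a))) (inv_mem (Subgroup.mem_sup_left n.2))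
    let y : ℕ → M0 := fun g =>
      if h : g < 12 then ⟨setting.mg x g, Subgroup.subset_closure ⟨⟨g, h⟩, rfl⟩⟩ else 1
    have hy : ∀ g < 12, (y g : setting.Mg x) = setting.mg x g := fun g hg => by
      show ((if h : g < 12 then (⟨setting.mg x g, _⟩ : M0) else 1 : M0) : setting.Mg x) = _
      rw [dif_pos hg]
    have yinv : ∀ g < 12, y (g ^^^ 1) = (y g)⁻¹ := fun g hg => Subtype.ext (by
      rw [Subgroup.coe_inv, hy g hg, hy _ (xor_lt.1 g hg)]
      exact Setting.mg_inv hV hG g (lt_trans hg (by decide)))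
    have yrel : ∀ w ∈ U.upperRels ++ U.rels2, wEval y w = 1 := fun w hw => Subtype.ext (by
      show M0.subtype (wEval y w) = 1
      rw [map_wEval]
      exact (wEval_congr _ (List.all_eq_true.1 lt12 w hw) fun g hg => hy g hg).trans
        (Setting.m_sat hV hG w (List.mem_append_left _ hw)))
    have ygen : ∀ {K : Subgroup M0}, (∀ g < 12, y g ∈ K) → K = ⊤ := by
      intro K hK
      rw [eq_top_iff]
      rintro ⟨z, hz⟩ -
      induction hz using Subgroup.closure_induction with
      | mem w hw =>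
        obtain ⟨g, rfl⟩ := hw
        have := hK g.1 g.2
        rwa [show y g.1 = ⟨setting.mg x g, Subgroup.subset_closure ⟨g, rfl⟩⟩ from
          Subtype.ext (hy g.1 g.2)] at this
      | one => exact one_mem K
      | mul u v hu hv eu ev => exact mul_mem eu ev
      | inv u hu eu => exact inv_mem eu
    have ya : y 0 = a := Subtype.ext (hy 0 (by decide))
    let K : Subgroup M0 := Subgroup.normalClosure {a}
    have hK : K = ⊤ := ygen fun g hg => by
      have := all_one (y := fun g => QuotientGroup.mk' K (y g))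
        (fun g hg => by simp only [yinv g hg, map_inv])
        (fun w hw => by rw [← map_wEval, yrel w hw, map_one])
        (by
          rw [ya]
          exact (QuotientGroup.eq_one_iff a).2 (Subgroup.subset_normalClosure rfl)) g hg
      exact (QuotientGroup.eq_one_iff _).1 this
    have hJ : J = ⊤ := by
      rw [eq_top_iff, ← hK]
      refine Subgroup.closure_le _ |>.2 fun z hz => ?_
      obtain ⟨b, hb, hbz⟩ := Group.mem_conjugatesOfSet_iff.1 hz
      rw [Set.mem_singleton_iff] at hb
      subst hb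
      obtain ⟨g, rfl⟩ := isConj_iff.1 hbz
      exact hconj g
    have hcomm : ∀ u v : M0 ⧸ N', u * v = v * u := by
      have hz : ∀ z : M0, QuotientGroup.mk' N' z ∈ Subgroup.zpowers (QuotientGroup.mk' N' a) := by
        intro z
        have : J ≤ (Subgroup.zpowers (QuotientGroup.mk' N' a)).comap (QuotientGroup.mk' N') := by
          refine sup_le (fun n hn => ?_) (by
            rw [Subgroup.zpowers_le]; exact Subgroup.mem_zpowers _)
          rw [Subgroup.mem_comap, show QuotientGroup.mk' N' n = 1 from (QuotientGroup.eq_one_iff n).2 hn]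
          exact one_mem _
        exact this (hJ ▸ Subgroup.mem_top z)
      intro u v
      obtain ⟨u, rfl⟩ := QuotientGroup.mk'_surjective N' u
      obtain ⟨v, rfl⟩ := QuotientGroup.mk'_surjective N' v
      obtain ⟨i, hi⟩ := hz u
      obtain ⟨j, hj⟩ := hz v
      rw [← hi, ← hj]
      exact ((Commute.refl _).zpow_zpow i j).eq
    have hone : N' = ⊤ := ygen fun g hg => by
      have := all_one_of_comm (y := fun g => QuotientGroup.mk' N' (y g))
        (fun g hg => by simp only [yinv g hg, map_inv])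
        (fun w hw => by rw [← map_wEval, yrel w hw, map_one]) (hcomm _ _) g hg
      exact (QuotientGroup.eq_one_iff _).1 this
    exact Subgroup.subgroupOf_eq_top.1 hone

/-- Every normal subgroup other than the trivial one contains the core. -/
theorem normal_ge_core (hV : setting.Valid) (hG : setting.Gens x) {K : Subgroup (setting.Mg x)}
    [K.Normal] (hne : K ≠ ⊥) : core x ≤ K := by
  haveI := Setting.m_finite hV hG
  by_cases hbot : K ⊓ core x = ⊥
  · exfalso
    haveI := core_normal hV hG
    refine hne (Subgroup.eq_bot_iff_forall _ |>.2 fun k hk => rho_inj hV hG ?_)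
    have hc : ∀ m ∈ core x, k * m = m * k := fun m hm => by
      have h1 : k * m * k⁻¹ * m⁻¹ ∈ K ⊓ core x := by
        refine Subgroup.mem_inf.2 ⟨?_, mul_mem (Subgroup.Normal.conj_mem inferInstance m hm k) (inv_mem hm)⟩
        rw [show k * m * k⁻¹ * m⁻¹ = k * (m * k⁻¹ * m⁻¹) from by group]
        exact mul_mem hk (Subgroup.Normal.conj_mem inferInstance _ (inv_mem hk) m)
      rw [hbot, Subgroup.mem_bot] at h1
      rw [mul_inv_eq_one, mul_inv_eq_iff_eq_mul] at h1
      exact h1
    rw [map_one]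
    have hk0 : setting.rho1 x k q0 = q0 := only_fixed hV fun s hs => by
      rw [← Equiv.Perm.mul_apply, ← map_mul, ← hc s (stab_le_core hs), map_mul,
        Equiv.Perm.mul_apply, stab_fix hV s hs]
    ext i
    obtain ⟨m, hm, rfl⟩ := trans (x := x) hV i
    rw [← Equiv.Perm.mul_apply, ← map_mul, hc m hm, map_mul, Equiv.Perm.mul_apply, hk0]
    rfl
  · have := core_simple hV hG (inf_le_right : K ⊓ core x ≤ core x) (fun m hm n hn =>
      Subgroup.mem_inf.2 ⟨Subgroup.Normal.conj_mem inferInstance n (Subgroup.mem_inf.1 hn).1 m,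
        mul_mem (mul_mem hm (Subgroup.mem_inf.1 hn).2) (inv_mem hm)⟩) hbot
    exact this ▸ inf_le_left

end CfsgLib.ThIndex.H
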