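import Cfsg.Agent.Lib.ThIndex.ThValid
import Cfsg.Agent.Lib.ThIndex.ThLetters
import Cfsg.Agent.Lib.ThIndex.ThModel

/-!
# The index of ³D₄(2):3 in the presented Thompson group
-/

set_option autoImplicit false
set_option maxRecDepth 100000

namespace CfsgLib.ThIndex

open CfsgLib.OrbitEnum Cfsg.Spor CfsgLib.ThRep

/-- The subgroup generated by a, b, c, d, e, s, t. -/
abbrev thSub : Subgroup Th := Subgroup.closure (Set.range fun g : Fin 14 => letter g)

/-- The subgroup generated by a, b, c, d, e, s. -/
abbrev thSub0 : Subgroup Th := Subgroup.closure (Set.range fun g : Fin 12 => letter g)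

theorem gens : H.setting.Gens letter :=
  ⟨fun g hg => letter_inv g (lt_trans (hg : g < 14) (by decide)), letter_relsH⟩

/-- The model of ³D₄(2):3. -/
abbrev Model : Type := H.setting.Mg letter

/-- The map of the model into the group. -/
noncomputable abbrev modelHom : Model →* Th := H.setting.pr letter

theorem modelHom_mg {g : ℕ} (hg : g < 14) : modelHom (H.setting.mg letter g) = letter g := by
  show (H.setting.mg letter g).1.1 = _
  rw [Setting.mg_val hg]
  rfl

theorem modelHom_inj : Function.Injective modelHom := by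
  rw [← MonoidHom.ker_eq_bot_iff]
  by_contra hne
  have hle := H.normal_ge_core H.valid gens hne
  have : H.setting.mg letter 0 ∈ modelHom.ker := hle (Subgroup.subset_closure ⟨0, rfl⟩)
  rw [MonoidHom.mem_ker, modelHom_mg (by decide)] at this
  exact a_ne_one this

theorem modelHom_range : modelHom.range = thSub := by
  rw [MonoidHom.range_eq_map, ← Setting.mg_gen (el := letter) (P := H.setting),
    MonoidHom.map_closure, ← Set.range_comp]
  congr 1
  exact congrArg Set.range (funext fun g => modelHom_mg g.2)

theorem modelHom_core : (H.core letter).map modelHom = thSub0 := by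
  rw [MonoidHom.map_closure, ← Set.range_comp]
  congr 1
  exact congrArg Set.range (funext fun g : Fin 12 => modelHom_mg (lt_trans g.2 (by decide)))

/-- The order of the subgroup. -/
theorem thSub_card : Nat.card thSub = 634023936 := by
  rw [← modelHom_range, ← Nat.card_congr (MonoidHom.ofInjective modelHom_inj).toEquiv,
    Setting.m_card H.valid gens]
  rfl

/-- The subgroup without t has the order of ³D₄(2). -/
theorem thSub0_card : Nat.card thSub0 = 211341312 := by
  rw [← modelHom_core, ← Nat.card_congr
    (Subgroup.equivMapOfInjective (H.core letter) modelHom modelHom_inj).toEquiv,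
    H.core_card H.valid gens]

theorem thSub0_le : thSub0 ≤ thSub := by
  rw [Subgroup.closure_le]
  rintro _ ⟨g, rfl⟩
  exact Subgroup.subset_closure ⟨⟨g.1, lt_trans g.2 (by decide)⟩, rfl⟩

/-- It is simple. -/
theorem thSub0_simple : IsSimpleGroup thSub0 := by
  rw [← modelHom_core]
  haveI : IsSimpleGroup (H.core letter) := by
    haveI : Nontrivial (H.core letter) := by
      haveI := Setting.m_finite H.valid gens
      rw [← Finite.one_lt_card_iff_nontrivial, H.core_card H.valid gens]
      decide
    refine ⟨fun N hN => ?_⟩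
    by_cases hb : N = ⊥
    · exact Or.inl hb
    · right
      have hne : N.map (H.core letter).subtype ≠ ⊥ := fun h => hb
        ((Subgroup.map_eq_bot_iff_of_injective _ (H.core letter).subtype_injective).1 h)
      have e := H.core_simple H.valid gens (Subgroup.map_subtype_le N) (fun m hm n hn => by
        obtain ⟨n, hn', rfl⟩ := Subgroup.mem_map.1 hn
        exact Subgroup.mem_map.2 ⟨⟨m, hm⟩ * n * ⟨m, hm⟩⁻¹, hN.conj_mem n hn' _, rfl⟩) hne
      refine eq_top_iff.2 fun z _ => ?_
      obtain ⟨n, hn, en⟩ := Subgroup.mem_map.1 (e.ge z.2)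
      rwa [← Subtype.ext en]
  haveI : Nontrivial ((H.core letter).map modelHom) :=
    (Subgroup.equivMapOfInjective (H.core letter) modelHom modelHom_inj).toEquiv.symm.nontrivial
  exact IsSimpleGroup.isSimpleGroup_of_surjective
    (Subgroup.equivMapOfInjective (H.core letter) modelHom modelHom_inj).toMonoidHom
    (Subgroup.equivMapOfInjective (H.core letter) modelHom modelHom_inj).surjective

theorem core_ne_top : H.core letter ≠ ⊤ := by
  intro h
  have := H.core_card (x := letter) H.valid gens
  rw [h, Subgroup.card_top, Setting.m_card H.valid gens] at this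
  exact absurd this (by decide)

/-- The quotient of the model by the core is commutative. -/
theorem core_quot_comm [(H.core letter).Normal] : ∀ u v : Model ⧸ H.core letter, u * v = v * u := by
  have hz : ∀ z : Model, QuotientGroup.mk' (H.core letter) z ∈
      Subgroup.zpowers (QuotientGroup.mk' (H.core letter) (H.setting.mg letter 12)) := by
    intro z
    have : (⊤ : Subgroup Model) ≤ (Subgroup.zpowers
        (QuotientGroup.mk' (H.core letter) (H.setting.mg letter 12))).comap
        (QuotientGroup.mk' (H.core letter)) := by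
      rw [← Setting.mg_gen (el := letter) (P := H.setting), Subgroup.closure_le]
      rintro _ ⟨⟨g, hg⟩, rfl⟩
      have hg' : g < 14 := hg
      show QuotientGroup.mk' (H.core letter) (H.setting.mg letter g) ∈ Subgroup.zpowers _
      by_cases h : g < 12
      · rw [show QuotientGroup.mk' (H.core letter) (H.setting.mg letter g) = 1 from
          (QuotientGroup.eq_one_iff _).2 (Subgroup.subset_closure ⟨⟨g, h⟩, rfl⟩)]
        exact one_mem _
      · obtain rfl | rfl : g = 12 ∨ g = 13 := by omega
        · exact Subgroup.mem_zpowers _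
        · rw [show H.setting.mg letter 13 = (H.setting.mg letter 12)⁻¹ from
            Setting.mg_inv H.valid gens 12 (by decide), map_inv]
          exact inv_mem (Subgroup.mem_zpowers _)
    exact this (Subgroup.mem_top z)
  intro u v
  obtain ⟨u, rfl⟩ := QuotientGroup.mk'_surjective _ u
  obtain ⟨v, rfl⟩ := QuotientGroup.mk'_surjective _ v
  obtain ⟨i, hi⟩ := hz u
  obtain ⟨j, hj⟩ := hz v
  rw [← hi, ← hj]
  exact ((Commute.refl _).zpow_zpow i j).eq

theorem u_rels : wEval letter [15, 12, 14, 12] = 1 ∧
    wEval letter [0, 4, 11, 15, 11, 15, 11, 15] = 1 := by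
  have h : (words.contains [15, 12, 14, 12] &&
      words.contains [0, 4, 11, 15, 11, 15, 11, 15]) = true := by decide +kernel
  simp only [Bool.and_eq_true, List.contains_iff_mem] at h
  exact ⟨word_rel h.1, word_rel h.2⟩

theorem t_cube : letter 12 * letter 12 * letter 12 = 1 := by
  simpa [wEval_cons, mul_assoc] using letter_relsH [12, 12, 12] (by simp [H.relsH, H.rels3])

theorem u_not_mem : letter 14 ∉ thSub := by
  intro hu
  rw [← modelHom_range] at hu
  obtain ⟨m, hm⟩ := hu
  haveI := H.core_normal (x := letter) H.valid gens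
  have e : m⁻¹ * H.setting.mg letter 12 * m * H.setting.mg letter 12 = 1 := modelHom_inj (by
    rw [map_mul, map_mul, map_mul, map_inv, hm, modelHom_mg (by decide), map_one]
    have := u_rels.1
    simp only [wEval_cons, wEval_nil, mul_one,
      show letter 15 = (letter 14)⁻¹ from letter_inv 14 (by decide)] at this
    rw [← this]; group)
  let q := QuotientGroup.mk' (H.core letter)
  have e2 : (q m)⁻¹ * q (H.setting.mg letter 12) * q m * q (H.setting.mg letter 12) = 1 := by
    rw [← map_inv, ← map_mul, ← map_mul, ← map_mul, e, map_one]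
  rw [core_quot_comm (q m)⁻¹ (q (H.setting.mg letter 12)), inv_mul_cancel_right] at e2
  have t3 : q (H.setting.mg letter 12) * (q (H.setting.mg letter 12) * q (H.setting.mg letter 12)) = 1 := by
    rw [← map_mul, ← map_mul, ← map_one q]
    refine congrArg q (modelHom_inj ?_)
    rw [map_mul, map_mul, map_one, modelHom_mg (by decide), ← mul_assoc, t_cube]
  rw [e2, mul_one] at t3
  refine core_ne_top (eq_top_iff.2 ?_)
  rw [← Setting.mg_gen (el := letter) (P := H.setting), Subgroup.closure_le]
  rintro _ ⟨⟨g, hg⟩, rfl⟩
  have hg' : g < 14 := hg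
  show H.setting.mg letter g ∈ H.core letter
  by_cases h : g < 12
  · exact Subgroup.subset_closure ⟨⟨g, h⟩, rfl⟩
  · have h12 := (QuotientGroup.eq_one_iff _).1 t3
    obtain rfl | rfl : g = 12 ∨ g = 13 := by omega
    · exact h12
    · rw [show H.setting.mg letter 13 = (H.setting.mg letter 12)⁻¹ from
        Setting.mg_inv H.valid gens 12 (by decide)]
      exact inv_mem h12

theorem ctx_ok : (ltW H.setting.ng H.twist.pre && ltW H.setting.ng H.twist.post &&
    Nat.beq H.twist.kth.length H.setting.kgens.length && H.twist.kth.all (ltW H.setting.ng)) = true ∧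
    H.kgens.length = 16 ∧ H.script.parOk = true ∧ H.alive.getD 0 0 = 0 := by
  decide +kernel

/-- The action on the cosets. -/
noncomputable def thCtx : Ctx H.setting H.twist Th (Th ⧸ thSub) where
  el := letter
  u := letter 14
  p0 := ((1 : Th) : Th ⧸ thSub)
  valid := H.valid
  gens := gens
  fix g hg := by
    rw [MulAction.Quotient.smul_coe, smul_eq_mul, mul_one, QuotientGroup.eq, mul_one]
    exact inv_mem (Subgroup.subset_closure ⟨⟨g, hg⟩, rfl⟩)
  twist_ok := ctx_ok.1
  twist i hi := letter_twist i (ctx_ok.2.1 ▸ hi)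
  u_inv := by
    show (letter 14)⁻¹ = wEval letter [] * letter 14 * wEval letter [0, 4]
    rw [u_inverse.2]
    simp [wEval_cons]
  loop_ok := letter_loops

/-- The vertices. -/
noncomputable def vert (j : ℕ) : Th ⧸ thSub := thCtx.vertOf H.script (H.alive.getD j 0)

/-- The rows of the table. -/
def rows : ℕ → Row := rowsOf H.tab

theorem table : thCtx.Table vert 11 rows :=
  thCtx.table_of ctx_ok.2.2.1 H.recs_all H.rows_all H.entries_all

theorem vert_zero : vert 0 = thCtx.p0 := by
  rw [vert, ctx_ok.2.2.2]
  exact (thCtx.vertsOk_of ctx_ok.2.2.1).1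

theorem deg_ok : sepOk 11 (fun i k => rowDeg (rows i) k) [0]
      [(1, 0), (2, 1), (3, 2), (4, 3), (5, 4), (6, 5), (7, 6), (8, 7), (9, 8), (10, 9)] = true ∧
    (∀ k < 11, k ≠ 0 → rowDeg (rows k) k ≠ 0) ∧
    (([(0, 1, 17199, 1), (1, 2, 6144, 1), (1, 3, 6144, 9), (1, 4, 2048, 27), (1, 5, 2304, 18),
      (1, 6, 480, 180), (2, 7, 936, 12168), (2, 8, 588, 12348), (2, 9, 1068, 12816),
      (2, 10, 24, 14112)] : List (ℕ × ℕ × ℕ × ℕ)).all fun (i, j, p, q) =>
        Nat.beq (rowDeg (rows i) j) p && Nat.beq (rowDeg (rows j) i) q) = true := by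
  decide +kernel

theorem gen_top : Subgroup.closure
    (insert thCtx.u (Set.range fun g : Fin H.setting.ng => thCtx.el g)) = ⊤ := by
  rw [eq_top_iff, ← PresentedGroup.closure_range_of, Subgroup.closure_le]
  rintro _ ⟨x, rfl⟩
  refine Subgroup.subset_closure ?_
  cases x
  · exact Set.mem_insert_of_mem _ ⟨⟨0, by decide⟩, rfl⟩
  · exact Set.mem_insert_of_mem _ ⟨⟨2, by decide⟩, rfl⟩
  · exact Set.mem_insert_of_mem _ ⟨⟨4, by decide⟩, rfl⟩
  · exact Set.mem_insert_of_mem _ ⟨⟨6, by decide⟩, rfl⟩
  · exact Set.mem_insert_of_mem _ ⟨⟨8, by decide⟩, rfl⟩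
  · exact Set.mem_insert_of_mem _ ⟨⟨10, by decide⟩, rfl⟩
  · exact Set.mem_insert_of_mem _ ⟨⟨12, by decide⟩, rfl⟩
  · exact Set.mem_insert _ _

theorem u_moves : thCtx.u • thCtx.p0 ≠ thCtx.p0 := by
  show letter 14 • ((1 : Th) : Th ⧸ thSub) ≠ _
  intro h
  rw [MulAction.Quotient.smul_coe, smul_eq_mul, mul_one] at h
  have h' := QuotientGroup.eq.1 (h : ((letter 14 : Th) : Th ⧸ thSub) = ((1 : Th) : Th ⧸ thSub))
  rw [mul_one] at h'
  exact u_not_mem (by simpa using inv_mem h')

/-- The orbits of the vertices are distinct. -/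
theorem iso_all : ∀ k < 11, thCtx.Iso vert 11 k :=
  thCtx.sep_all table deg_ok.1 fun k hk => by
    rw [List.mem_singleton] at hk
    subst hk
    exact ⟨by decide, thCtx.iso_zero table vert_zero u_moves deg_ok.2.1⟩

/-- The sizes of the orbits. -/
def sizes : List ℕ :=
  [1, 17199, 105670656, 11741184, 1304576, 2201472, 45864, 8128512, 5031936, 8805888, 179712]

theorem orb_card : ∀ j < 11, (thCtx.orb (vert j)).ncard = sizes.getD j 0 := by
  have h := deg_ok.2.2
  simp only [List.all_cons, List.all_nil, Bool.and_true, Bool.and_eq_true, Nat.beq_eq] at h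
  obtain ⟨h1, h2, h3, h4, h5, h6, h7, h8, h9, h10⟩ := h
  have b : ∀ {i j p q : ℕ}, i < 11 → j < 11 → rowDeg (rows i) j = p ∧ rowDeg (rows j) i = q →
      (thCtx.orb (vert i)).ncard * p = (thCtx.orb (vert j)).ncard * q := fun hi hj e => by
    have := thCtx.balance table iso_all hi hj
    rwa [e.1, e.2] at this
  have e0 := thCtx.orb_zero_card vert_zero
  have e1 := b (by decide) (by decide) h1
  have e2 := b (by decide) (by decide) h2
  have e3 := b (by decide) (by decide) h3
  have e4 := b (by decide) (by decide) h4
  have e5 := b (by decide) (by decide) h5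
  have e6 := b (by decide) (by decide) h6
  have e7 := b (by decide) (by decide) h7
  have e8 := b (by decide) (by decide) h8
  have e9 := b (by decide) (by decide) h9
  have e10 := b (by decide) (by decide) h10
  intro j hj
  interval_cases j <;> simp only [sizes, List.getD_cons_zero, List.getD_cons_succ] <;> omega

theorem index_eq : thSub.index = 143127000 := by
  rw [Subgroup.index, thCtx.card_eq table iso_all vert_zero (by decide) gen_top,
    Finset.sum_congr rfl fun j hj => orb_card j (Finset.mem_range.1 hj)]
  decide +kernel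

instance th_finite : Finite Th := by
  haveI : Finite thSub := Nat.finite_of_card_ne_zero (by rw [thSub_card]; decide)
  haveI : Finite (Th ⧸ thSub) := Nat.finite_of_card_ne_zero (by
    rw [← Subgroup.index, index_eq]; decide)
  exact Finite.of_equiv _ (Subgroup.groupEquivQuotientProdSubgroup (s := thSub)).symm

/-- The order. -/
theorem th_card : Nat.card Th = 90745943887872000 := by
  rw [← thSub.index_mul_card, index_eq, thSub_card]

end CfsgLib.ThIndex
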