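import Cfsg.Agent.Lib.ThIndex.Simple
import Cfsg.Prelude.Def_Exceptional

/-!
# The subgroup by named generators, and the group of matrices
-/

set_option autoImplicit false
set_option maxRecDepth 100000

namespace CfsgLib.ThIndex

open CfsgLib.OrbitEnum Cfsg.Spor CfsgLib.ThRep

theorem map_closure_eq :
    ((Subgroup.closure ({Th.a, Th.b, Th.c, Th.d, Th.e, Th.s, Th.t} : Set (FreeGroup Th.Gen))).map
      (PresentedGroup.mk (coxRelators Th.edges ∪ {r | r ∈ Th.extra}))) = thSub := by
  rw [MonoidHom.map_closure]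
  refine le_antisymm ((Subgroup.closure_le _).2 ?_) ((Subgroup.closure_le _).2 ?_)
  · rintro _ ⟨y, hy, rfl⟩
    simp only [Set.mem_insert_iff, Set.mem_singleton_iff] at hy
    rcases hy with rfl | rfl | rfl | rfl | rfl | rfl | rfl
    · exact Subgroup.subset_closure ⟨⟨0, by decide⟩, rfl⟩
    · exact Subgroup.subset_closure ⟨⟨2, by decide⟩, rfl⟩
    · exact Subgroup.subset_closure ⟨⟨4, by decide⟩, rfl⟩
    · exact Subgroup.subset_closure ⟨⟨6, by decide⟩, rfl⟩
    · exact Subgroup.subset_closure ⟨⟨8, by decide⟩, rfl⟩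
    · exact Subgroup.subset_closure ⟨⟨10, by decide⟩, rfl⟩
    · exact Subgroup.subset_closure ⟨⟨12, by decide⟩, rfl⟩
  · rintro _ ⟨⟨g, hg⟩, rfl⟩
    have key : ∀ k, k < 7 → (PresentedGroup.of (genOf k) : Th) ∈ Subgroup.closure
        ((PresentedGroup.mk (coxRelators Th.edges ∪ {r | r ∈ Th.extra})) ''
          ({Th.a, Th.b, Th.c, Th.d, Th.e, Th.s, Th.t} : Set (FreeGroup Th.Gen))) := by
      intro k hk
      refine Subgroup.subset_closure ⟨FreeGroup.of (genOf k), ?_, rfl⟩
      interval_cases k <;> simp [genOf]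
    show letter g ∈ _
    simp only [letter]
    cases Nat.beq (g % 2) 0
    · exact inv_mem (key (g / 2) (by omega))
    · exact key (g / 2) (by omega)

/-- The subgroup without t, with the order of ³D₄(2). -/
theorem thSub0_is3D4 : Cfsg.Is3D4 thSub0 :=
  ⟨thSub0_simple, 2, ⟨2, 1, Nat.prime_two.prime, Nat.one_pos, rfl⟩, by rw [thSub0_card]; decide⟩

/-- An injective image of a group with these subgroups has them too. -/
theorem realise {A B : Type} [Group A] [Group B] (f : A →* B) (hf : Function.Injective f)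
    (K L : Subgroup A) {n : ℕ} (hA : Cfsg.IsTh A) (hK : K.index = n) (hL : L ≤ K)
    (h3 : Cfsg.Is3D4 L) :
    ∃ H : Subgroup B, Cfsg.IsTh H ∧ ∃ K' : Subgroup H, K'.index = n ∧
      ∃ L' : Subgroup H, L' ≤ K' ∧ Cfsg.Is3D4 L' := by
  let e : A ≃* f.range := MonoidHom.ofInjective hf
  haveI := hA.1
  haveI : Nontrivial f.range := e.toEquiv.symm.nontrivial
  refine ⟨f.range, ⟨IsSimpleGroup.isSimpleGroup_of_surjective e.toMonoidHom e.surjective,
    (Nat.card_congr e.toEquiv).symm.trans hA.2⟩, K.map e.toMonoidHom,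
    (Subgroup.index_map_equiv K e).trans hK, L.map e.toMonoidHom, Subgroup.map_mono hL, ?_⟩
  let i : L ≃* L.map e.toMonoidHom := Subgroup.equivMapOfInjective L e.toMonoidHom e.injective
  obtain ⟨hs, q, hq, hcard⟩ := h3
  haveI := hs
  haveI : Nontrivial (L.map e.toMonoidHom) := i.toEquiv.symm.nontrivial
  exact ⟨IsSimpleGroup.isSimpleGroup_of_surjective i.toMonoidHom i.surjective, q, hq,
    (congrArg (· = _) (Nat.card_congr i.toEquiv)).mp hcard⟩

theorem matrix_realization : ∃ H : Subgroup (GL (Fin 248) (ZMod 3)), Cfsg.IsTh H ∧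
    ∃ K : Subgroup H, K.index = 143127000 ∧ ∃ L : Subgroup H, L ≤ K ∧ Cfsg.Is3D4 L :=
  realise rho rho_injective thSub thSub0 th_isTh index_eq thSub0_le thSub0_is3D4

end CfsgLib.ThIndex
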