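import Cfsg.Agent.Lib.ThIndex.ThSetting

/-!
# Checks of the tables, the small one
-/

set_option autoImplicit false
set_option maxRecDepth 100000
set_option Elab.async false

namespace CfsgLib.ThIndex.H

open CfsgLib.OrbitEnum

theorem ok1 : ((List.range T1.ng).all fun g => T1.letterOk g) = true := by decide +kernel

theorem rels1_ok : (relsH.all fun w => T1.fixAll w) = true := by decide +kernel

theorem chain1_ok : (chainOk T1 [] chain && Nat.beq (chainSize chain) 634023936 &&
    chainOk T1 [] setting.kLevels &&
    Nat.beq ((decRows topCode).length + 1) T2.n &&
    Nat.beq (((decRows topCode).length + 1) * chainSize setting.kLevels) 634023936 &&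
    (kgens.all fun w => ltW 14 w && Nat.beq (T2.img w 0) 0)) = true := by decide +kernel

end CfsgLib.ThIndex.H
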