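import Cfsg.Agent.Lib.ThIndex.ThSetting

/-!
# Checks of the letters of the large table
-/

set_option autoImplicit false
set_option maxRecDepth 100000
set_option Elab.async false

namespace CfsgLib.ThIndex.H

open CfsgLib.OrbitEnum

theorem letter2_0 : T2.letterOk 0 = true := by decide +kernel

theorem letter2_1 : T2.letterOk 1 = true := by decide +kernel

theorem letter2_2 : T2.letterOk 2 = true := by decide +kernel

theorem letter2_3 : T2.letterOk 3 = true := by decide +kernel

theorem letter2_4 : T2.letterOk 4 = true := by decide +kernel

theorem letter2_5 : T2.letterOk 5 = true := by decide +kernel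

theorem letter2_6 : T2.letterOk 6 = true := by decide +kernel

theorem letter2_7 : T2.letterOk 7 = true := by decide +kernel

theorem letter2_8 : T2.letterOk 8 = true := by decide +kernel

theorem letter2_9 : T2.letterOk 9 = true := by decide +kernel

theorem letter2_10 : T2.letterOk 10 = true := by decide +kernel

theorem letter2_11 : T2.letterOk 11 = true := by decide +kernel

theorem letter2_12 : T2.letterOk 12 = true := by decide +kernel

theorem letter2_13 : T2.letterOk 13 = true := by decide +kernel


end CfsgLib.ThIndex.H
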