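import Cfsg.Agent.Lib.ThIndex.ThSetting

/-!
# Check of the transitive tree
-/

set_option autoImplicit false
set_option maxRecDepth 100000
set_option Elab.async false

namespace CfsgLib.ThIndex.H

open CfsgLib.OrbitEnum

theorem top2_ok : chainOk T2 [] [setting.top] = true := by decide +kernel

end CfsgLib.ThIndex.H
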