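import Cfsg.Agent.Lib.ThIndex.ThSetting
import Cfsg.Agent.Lib.ThIndex.ThRecs
import Cfsg.Agent.Lib.ThIndex.ThTab

/-!
# Check of directions from a vertex
-/

set_option autoImplicit false
set_option maxRecDepth 100000
set_option Elab.async false

namespace CfsgLib.ThIndex.H

open CfsgLib.OrbitEnum

theorem e0_1_ok :
    script.entryOk setting twist 2257 (alive.getD 0 0) (alive.getD e0_1.dst 0) e0_1 = true := by
  decide +kernel

theorem row_ok0 : rowOk setting.T2.n 11 (rowsOf tab 0) = true := by decide +kernel

end CfsgLib.ThIndex.H
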