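import Cfsg.Agent.Lib.ThIndex.ThSetting
import Cfsg.Agent.Lib.ThIndex.ThRecs
import Cfsg.Agent.Lib.ThIndex.ThTab

/-!
# Check of directions from a vertex
-/

set_option autoImplicit false
set_option maxRecDepth 100000
set_option Elab.async false

namespace CfsgLib.ThIndex.H

open CfsgLib.OrbitEnum

theorem e1_0_ok :
    script.entryOk setting twist 2257 (alive.getD 1 0) (alive.getD e1_0.dst 0) e1_0 = true := by
  decide +kernel

theorem e1_1_ok :
    script.entryOk setting twist 2257 (alive.getD 1 0) (alive.getD e1_1.dst 0) e1_1 = true := by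
  decide +kernel

theorem e1_2_ok :
    script.entryOk setting twist 2257 (alive.getD 1 0) (alive.getD e1_2.dst 0) e1_2 = true := by
  decide +kernel

theorem e1_3_ok :
    script.entryOk setting twist 2257 (alive.getD 1 0) (alive.getD e1_3.dst 0) e1_3 = true := by
  decide +kernel

theorem e1_4_ok :
    script.entryOk setting twist 2257 (alive.getD 1 0) (alive.getD e1_4.dst 0) e1_4 = true := by
  decide +kernel

theorem e1_5_ok :
    script.entryOk setting twist 2257 (alive.getD 1 0) (alive.getD e1_5.dst 0) e1_5 = true := by
  decide +kernel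

theorem e1_6_ok :
    script.entryOk setting twist 2257 (alive.getD 1 0) (alive.getD e1_6.dst 0) e1_6 = true := by
  decide +kernel

theorem row_ok1 : rowOk setting.T2.n 11 (rowsOf tab 1) = true := by decide +kernel

end CfsgLib.ThIndex.H
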