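import Cfsg.Agent.Lib.ThIndex.ThSetting
import Cfsg.Agent.Lib.ThIndex.ThRecs
import Cfsg.Agent.Lib.ThIndex.ThTab

/-!
# Check of directions from a vertex
-/

set_option autoImplicit false
set_option maxRecDepth 100000
set_option Elab.async false

namespace CfsgLib.ThIndex.H

open CfsgLib.OrbitEnum

theorem e5_1_ok :
    script.entryOk setting twist 2257 (alive.getD 5 0) (alive.getD e5_1.dst 0) e5_1 = true := by
  decide +kernel

theorem e5_2_ok :
    script.entryOk setting twist 2257 (alive.getD 5 0) (alive.getD e5_2.dst 0) e5_2 = true := by
  decide +kernel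

theorem e5_3_ok :
    script.entryOk setting twist 2257 (alive.getD 5 0) (alive.getD e5_3.dst 0) e5_3 = true := by
  decide +kernel

theorem e5_4_ok :
    script.entryOk setting twist 2257 (alive.getD 5 0) (alive.getD e5_4.dst 0) e5_4 = true := by
  decide +kernel

theorem e5_5_ok :
    script.entryOk setting twist 2257 (alive.getD 5 0) (alive.getD e5_5.dst 0) e5_5 = true := by
  decide +kernel

theorem e5_6_ok :
    script.entryOk setting twist 2257 (alive.getD 5 0) (alive.getD e5_6.dst 0) e5_6 = true := by
  decide +kernel

theorem e5_7_ok :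
    script.entryOk setting twist 2257 (alive.getD 5 0) (alive.getD e5_7.dst 0) e5_7 = true := by
  decide +kernel

theorem e5_8_ok :
    script.entryOk setting twist 2257 (alive.getD 5 0) (alive.getD e5_8.dst 0) e5_8 = true := by
  decide +kernel

theorem e5_9_ok :
    script.entryOk setting twist 2257 (alive.getD 5 0) (alive.getD e5_9.dst 0) e5_9 = true := by
  decide +kernel

theorem e5_10_ok :
    script.entryOk setting twist 2257 (alive.getD 5 0) (alive.getD e5_10.dst 0) e5_10 = true := by
  decide +kernel

theorem row_ok5 : rowOk setting.T2.n 11 (rowsOf tab 5) = true := by decide +kernel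

end CfsgLib.ThIndex.H
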