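import Cfsg.Agent.Lib.ThIndex.ThSetting
import Cfsg.Agent.Lib.ThIndex.ThRecs
import Cfsg.Agent.Lib.ThIndex.ThTab

/-!
# Check of directions from a vertex
-/

set_option autoImplicit false
set_option maxRecDepth 100000
set_option Elab.async false

namespace CfsgLib.ThIndex.H

open CfsgLib.OrbitEnum

theorem e6_1_ok :
    script.entryOk setting twist 2257 (alive.getD 6 0) (alive.getD e6_1.dst 0) e6_1 = true := by
  decide +kernel

theorem e6_2_ok :
    script.entryOk setting twist 2257 (alive.getD 6 0) (alive.getD e6_2.dst 0) e6_2 = true := by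
  decide +kernel

theorem e6_5_ok :
    script.entryOk setting twist 2257 (alive.getD 6 0) (alive.getD e6_5.dst 0) e6_5 = true := by
  decide +kernel

theorem e6_6_ok :
    script.entryOk setting twist 2257 (alive.getD 6 0) (alive.getD e6_6.dst 0) e6_6 = true := by
  decide +kernel

theorem e6_7_ok :
    script.entryOk setting twist 2257 (alive.getD 6 0) (alive.getD e6_7.dst 0) e6_7 = true := by
  decide +kernel

theorem e6_8_ok :
    script.entryOk setting twist 2257 (alive.getD 6 0) (alive.getD e6_8.dst 0) e6_8 = true := by
  decide +kernel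

theorem row_ok6 : rowOk setting.T2.n 11 (rowsOf tab 6) = true := by decide +kernel

end CfsgLib.ThIndex.H
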