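import Cfsg.Agent.Lib.ThIndex.ThSetting
import Cfsg.Agent.Lib.ThIndex.ThRecs
import Cfsg.Agent.Lib.ThIndex.ThTab

/-!
# Check of directions from a vertex
-/

set_option autoImplicit false
set_option maxRecDepth 100000
set_option Elab.async false

namespace CfsgLib.ThIndex.H

open CfsgLib.OrbitEnum

theorem e8_2_ok :
    script.entryOk setting twist 2257 (alive.getD 8 0) (alive.getD e8_2.dst 0) e8_2 = true := by
  decide +kernel

theorem e8_3_ok :
    script.entryOk setting twist 2257 (alive.getD 8 0) (alive.getD e8_3.dst 0) e8_3 = true := by
  decide +kernel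

theorem e8_4_ok :
    script.entryOk setting twist 2257 (alive.getD 8 0) (alive.getD e8_4.dst 0) e8_4 = true := by
  decide +kernel

theorem e8_5_ok :
    script.entryOk setting twist 2257 (alive.getD 8 0) (alive.getD e8_5.dst 0) e8_5 = true := by
  decide +kernel

theorem e8_6_ok :
    script.entryOk setting twist 2257 (alive.getD 8 0) (alive.getD e8_6.dst 0) e8_6 = true := by
  decide +kernel

theorem e8_7_ok :
    script.entryOk setting twist 2257 (alive.getD 8 0) (alive.getD e8_7.dst 0) e8_7 = true := by
  decide +kernel

theorem e8_8_ok :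
    script.entryOk setting twist 2257 (alive.getD 8 0) (alive.getD e8_8.dst 0) e8_8 = true := by
  decide +kernel

theorem e8_9_ok :
    script.entryOk setting twist 2257 (alive.getD 8 0) (alive.getD e8_9.dst 0) e8_9 = true := by
  decide +kernel

theorem row_ok8 : rowOk setting.T2.n 11 (rowsOf tab 8) = true := by decide +kernel

end CfsgLib.ThIndex.H
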