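import Cfsg.Agent.Lib.ThIndex.ThSetting

/-!
# Checks of relators on the large table
-/

set_option autoImplicit false
set_option maxRecDepth 100000
set_option Elab.async false

namespace CfsgLib.ThIndex.H

open CfsgLib.OrbitEnum

theorem rel2_0 : T2.fixAll (relsH.getD 0 []) = true := by decide +kernel

theorem rel2_1 : T2.fixAll (relsH.getD 1 []) = true := by decide +kernel

theorem rel2_2 : T2.fixAll (relsH.getD 2 []) = true := by decide +kernel

theorem rel2_3 : T2.fixAll (relsH.getD 3 []) = true := by decide +kernel

theorem rel2_4 : T2.fixAll (relsH.getD 4 []) = true := by decide +kernel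

theorem rel2_5 : T2.fixAll (relsH.getD 5 []) = true := by decide +kernel

theorem rel2_6 : T2.fixAll (relsH.getD 6 []) = true := by decide +kernel

theorem rel2_7 : T2.fixAll (relsH.getD 7 []) = true := by decide +kernel

theorem rel2_8 : T2.fixAll (relsH.getD 8 []) = true := by decide +kernel

theorem rel2_9 : T2.fixAll (relsH.getD 9 []) = true := by decide +kernel

theorem rel2_10 : T2.fixAll (relsH.getD 10 []) = true := by decide +kernel

theorem rel2_11 : T2.fixAll (relsH.getD 11 []) = true := by decide +kernel

theorem rel2_12 : T2.fixAll (relsH.getD 12 []) = true := by decide +kernel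


end CfsgLib.ThIndex.H
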