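import Cfsg.Agent.Lib.ThIndex.ThSetting

/-!
# Checks of relators on the large table
-/

set_option autoImplicit false
set_option maxRecDepth 100000
set_option Elab.async false

namespace CfsgLib.ThIndex.H

open CfsgLib.OrbitEnum

theorem rel2_13 : T2.fixAll (relsH.getD 13 []) = true := by decide +kernel


end CfsgLib.ThIndex.H
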