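import Cfsg.Agent.Lib.ThIndex.ThSetting

/-!
# Checks of relators on the large table
-/

set_option autoImplicit false
set_option maxRecDepth 100000
set_option Elab.async false

namespace CfsgLib.ThIndex.H

open CfsgLib.OrbitEnum

theorem rel2_14 : T2.fixAll (relsH.getD 14 []) = true := by decide +kernel

theorem rel2_15 : T2.fixAll (relsH.getD 15 []) = true := by decide +kernel

theorem rel2_16 : T2.fixAll (relsH.getD 16 []) = true := by decide +kernel

theorem rel2_17 : T2.fixAll (relsH.getD 17 []) = true := by decide +kernel

theorem rel2_18 : T2.fixAll (relsH.getD 18 []) = true := by decide +kernel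

theorem rel2_19 : T2.fixAll (relsH.getD 19 []) = true := by decide +kernel

theorem rel2_20 : T2.fixAll (relsH.getD 20 []) = true := by decide +kernel

theorem rel2_21 : T2.fixAll (relsH.getD 21 []) = true := by decide +kernel

theorem rel2_22 : T2.fixAll (relsH.getD 22 []) = true := by decide +kernel

theorem rel2_23 : T2.fixAll (relsH.getD 23 []) = true := by decide +kernel

theorem rel2_24 : T2.fixAll (relsH.getD 24 []) = true := by decide +kernel

theorem rel2_25 : T2.fixAll (relsH.getD 25 []) = true := by decide +kernel

theorem rel2_26 : T2.fixAll (relsH.getD 26 []) = true := by decide +kernel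


end CfsgLib.ThIndex.H
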