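import Cfsg.Agent.Lib.ThIndex.ThSetting
import Cfsg.Agent.Lib.ThIndex.ThRecs

/-!
# Checks of records
-/

set_option autoImplicit false
set_option maxRecDepth 100000
set_option Elab.async false

namespace CfsgLib.ThIndex.H

open CfsgLib.OrbitEnum

theorem recs_ok0 : script.rangeOk setting twist 0 128 = true := by decide +kernel

theorem recs_ok128 : script.rangeOk setting twist 128 128 = true := by decide +kernel

theorem recs_ok256 : script.rangeOk setting twist 256 128 = true := by decide +kernel

theorem recs_ok384 : script.rangeOk setting twist 384 128 = true := by decide +kernel

theorem recs_ok512 : script.rangeOk setting twist 512 128 = true := by decide +kernel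

theorem recs_ok640 : script.rangeOk setting twist 640 128 = true := by decide +kernel


end CfsgLib.ThIndex.H
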