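import Cfsg.Agent.Lib.ThIndex.ThSetting
import Cfsg.Agent.Lib.ThIndex.ThRecs

/-!
# Checks of records
-/

set_option autoImplicit false
set_option maxRecDepth 100000
set_option Elab.async false

namespace CfsgLib.ThIndex.H

open CfsgLib.OrbitEnum

theorem recs_ok1536 : script.rangeOk setting twist 1536 128 = true := by decide +kernel

theorem recs_ok1664 : script.rangeOk setting twist 1664 128 = true := by decide +kernel

theorem recs_ok1792 : script.rangeOk setting twist 1792 128 = true := by decide +kernel

theorem recs_ok1920 : script.rangeOk setting twist 1920 128 = true := by decide +kernel

theorem recs_ok2048 : script.rangeOk setting twist 2048 128 = true := by decide +kernel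

theorem recs_ok2176 : script.rangeOk setting twist 2176 81 = true := by decide +kernel


end CfsgLib.ThIndex.H
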