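import Cfsg.Agent.Lib.OrbitEnum.Cert
import Cfsg.Agent.Lib.ThIndex.HBound
import Cfsg.Agent.Lib.ThIndex.ThT1
import Cfsg.Agent.Lib.ThIndex.ThT2
import Cfsg.Agent.Lib.ThIndex.ThData

/-!
# The setting of ³D₄(2):3
-/

set_option autoImplicit false
set_option maxRecDepth 100000

namespace CfsgLib.ThIndex.H

open CfsgLib.OrbitEnum

/-- The setting. -/
def setting : Setting where
  T1 := T1
  T2 := T2
  rels := relsH
  size := 634023936
  chain := chain
  top := { pt := 0, gens := [[0], [2], [4], [6], [8], [10], [12]], rows := decRows topCode }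
  kgens := kgens
  kchain := kchain

end CfsgLib.ThIndex.H
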