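import Cfsg.Agent.Lib.ThIndex.ThCheckA
import Cfsg.Agent.Lib.ThIndex.ThCheckB
import Cfsg.Agent.Lib.ThIndex.ThCheckC
import Cfsg.Agent.Lib.ThIndex.ThCheckR0
import Cfsg.Agent.Lib.ThIndex.ThCheckR1
import Cfsg.Agent.Lib.ThIndex.ThCheckR2
import Cfsg.Agent.Lib.ThIndex.ThCheckS0
import Cfsg.Agent.Lib.ThIndex.ThCheckS1
import Cfsg.Agent.Lib.ThIndex.ThCheckS2
import Cfsg.Agent.Lib.ThIndex.ThCheckE0
import Cfsg.Agent.Lib.ThIndex.ThCheckE1
import Cfsg.Agent.Lib.ThIndex.ThCheckE2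
import Cfsg.Agent.Lib.ThIndex.ThCheckE3
import Cfsg.Agent.Lib.ThIndex.ThCheckE4
import Cfsg.Agent.Lib.ThIndex.ThCheckE5
import Cfsg.Agent.Lib.ThIndex.ThCheckE6
import Cfsg.Agent.Lib.ThIndex.ThCheckE7
import Cfsg.Agent.Lib.ThIndex.ThCheckE8
import Cfsg.Agent.Lib.ThIndex.ThCheckE9
import Cfsg.Agent.Lib.ThIndex.ThCheckE10

/-!
# The setting of ³D₄(2):3 is valid, and all its checks
-/

set_option autoImplicit false
set_option maxRecDepth 100000

namespace CfsgLib.ThIndex.H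

open CfsgLib.OrbitEnum

theorem relsH_length : relsH.length = 27 := by decide +kernel

theorem ok2 : T2.Ok := by
  intro g hg
  have hg' : g < 14 := hg
  interval_cases g
  · exact letter2_0
  · exact letter2_1
  · exact letter2_2
  · exact letter2_3
  · exact letter2_4
  · exact letter2_5
  · exact letter2_6
  · exact letter2_7
  · exact letter2_8
  · exact letter2_9
  · exact letter2_10
  · exact letter2_11
  · exact letter2_12
  · exact letter2_13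

theorem rels2_ok : ∀ w ∈ relsH, T2.fixAll w = true := by
  intro w hw
  obtain ⟨i, hi, rfl⟩ := List.getElem_of_mem hw
  rw [← List.getD_eq_getElem relsH [] hi]
  rw [relsH_length] at hi
  interval_cases i
  · exact rel2_0
  · exact rel2_1
  · exact rel2_2
  · exact rel2_3
  · exact rel2_4
  · exact rel2_5
  · exact rel2_6
  · exact rel2_7
  · exact rel2_8
  · exact rel2_9
  · exact rel2_10
  · exact rel2_11
  · exact rel2_12
  · exact rel2_13
  · exact rel2_14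
  · exact rel2_15
  · exact rel2_16
  · exact rel2_17
  · exact rel2_18
  · exact rel2_19
  · exact rel2_20
  · exact rel2_21
  · exact rel2_22
  · exact rel2_23
  · exact rel2_24
  · exact rel2_25
  · exact rel2_26

/-- The setting is valid. -/
theorem valid : setting.Valid := by
  have h := chain1_ok
  simp only [Bool.and_eq_true, Nat.beq_eq] at h
  obtain ⟨⟨⟨⟨⟨h1, h2⟩, h6⟩, h4⟩, h7⟩, h5⟩ := h
  exact {
    ok1 := fun g hg => List.all_eq_true.1 ok1 g (List.mem_range.2 hg)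
    ok2 := ok2
    ng_eq := rfl
    rels1 := fun w hw => List.all_eq_true.1 rels1_ok w hw
    rels2 := rels2_ok
    chain_ok := ⟨h1, h2⟩
    top_ok := ⟨top2_ok, rfl⟩
    top_len := h4
    kgens_ok := h5
    kchain_ok := ⟨h6, h7⟩
    bound := fun x hinv hrel hgen => H_bound x hinv hrel hgen }

theorem recs_chunk {lo len n : ℕ} (h : script.rangeOk setting twist lo len = true) (h1 : lo ≤ n)
    (h2 : n < lo + len) : script.recOk setting twist n = true := by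
  obtain ⟨i, rfl⟩ := Nat.exists_eq_add_of_le h1
  exact List.all_eq_true.1 h i (List.mem_range.2 (by omega))

theorem recs_all : ∀ n < 2257, script.recOk setting twist n = true := by
  intro n hn
  by_cases h0 : n < 128
  · exact recs_chunk recs_ok0 (by omega) h0
  by_cases h128 : n < 256
  · exact recs_chunk recs_ok128 (by omega) h128
  by_cases h256 : n < 384
  · exact recs_chunk recs_ok256 (by omega) h256
  by_cases h384 : n < 512
  · exact recs_chunk recs_ok384 (by omega) h384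
  by_cases h512 : n < 640
  · exact recs_chunk recs_ok512 (by omega) h512
  by_cases h640 : n < 768
  · exact recs_chunk recs_ok640 (by omega) h640
  by_cases h768 : n < 896
  · exact recs_chunk recs_ok768 (by omega) h768
  by_cases h896 : n < 1024
  · exact recs_chunk recs_ok896 (by omega) h896
  by_cases h1024 : n < 1152
  · exact recs_chunk recs_ok1024 (by omega) h1024
  by_cases h1152 : n < 1280
  · exact recs_chunk recs_ok1152 (by omega) h1152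
  by_cases h1280 : n < 1408
  · exact recs_chunk recs_ok1280 (by omega) h1280
  by_cases h1408 : n < 1536
  · exact recs_chunk recs_ok1408 (by omega) h1408
  by_cases h1536 : n < 1664
  · exact recs_chunk recs_ok1536 (by omega) h1536
  by_cases h1664 : n < 1792
  · exact recs_chunk recs_ok1664 (by omega) h1664
  by_cases h1792 : n < 1920
  · exact recs_chunk recs_ok1792 (by omega) h1792
  by_cases h1920 : n < 2048
  · exact recs_chunk recs_ok1920 (by omega) h1920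
  by_cases h2048 : n < 2176
  · exact recs_chunk recs_ok2048 (by omega) h2048
  exact recs_chunk recs_ok2176 (by omega) hn

theorem rows_all : ∀ i < 11, rowOk setting.T2.n 11 (rowsOf tab i) = true := by
  intro i hi
  interval_cases i
  · exact row_ok0
  · exact row_ok1
  · exact row_ok2
  · exact row_ok3
  · exact row_ok4
  · exact row_ok5
  · exact row_ok6
  · exact row_ok7
  · exact row_ok8
  · exact row_ok9
  · exact row_ok10

theorem entries_all : ∀ i < 11, ∀ e ∈ tab.getD i [],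
    script.entryOk setting twist 2257 (alive.getD i 0) (alive.getD e.dst 0) e = true := by
  intro i hi
  interval_cases i
  · exact (List.forall_mem_cons.2 ⟨e0_1_ok, (fun _ h => absurd h List.not_mem_nil)⟩)
  · exact (List.forall_mem_cons.2 ⟨e1_0_ok, (List.forall_mem_cons.2 ⟨e1_1_ok, (List.forall_mem_cons.2 ⟨e1_2_ok, (List.forall_mem_cons.2 ⟨e1_3_ok, (List.forall_mem_cons.2 ⟨e1_4_ok, (List.forall_mem_cons.2 ⟨e1_5_ok, (List.forall_mem_cons.2 ⟨e1_6_ok, (fun _ h => absurd h List.not_mem_nil)⟩)⟩)⟩)⟩)⟩)⟩)⟩)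
  · exact (List.forall_mem_cons.2 ⟨e2_1_ok, (List.forall_mem_cons.2 ⟨e2_2_ok, (List.forall_mem_cons.2 ⟨e2_3_ok, (List.forall_mem_cons.2 ⟨e2_4_ok, (List.forall_mem_cons.2 ⟨e2_5_ok, (List.forall_mem_cons.2 ⟨e2_6_ok, (List.forall_mem_cons.2 ⟨e2_7_ok, (List.forall_mem_cons.2 ⟨e2_8_ok, (List.forall_mem_cons.2 ⟨e2_9_ok, (List.forall_mem_cons.2 ⟨e2_10_ok, (fun _ h => absurd h List.not_mem_nil)⟩)⟩)⟩)⟩)⟩)⟩)⟩)⟩)⟩)⟩)
  · exact (List.forall_mem_cons.2 ⟨e3_1_ok, (List.forall_mem_cons.2 ⟨e3_2_ok, (List.forall_mem_cons.2 ⟨e3_3_ok, (List.forall_mem_cons.2 ⟨e3_4_ok, (List.forall_mem_cons.2 ⟨e3_5_ok, (List.forall_mem_cons.2 ⟨e3_7_ok, (List.forall_mem_cons.2 ⟨e3_8_ok, (List.forall_mem_cons.2 ⟨e3_9_ok, (fun _ h => absurd h List.not_mem_nil)⟩)⟩)⟩)⟩)⟩)⟩)⟩)⟩)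
  · exact (List.forall_mem_cons.2 ⟨e4_1_ok, (List.forall_mem_cons.2 ⟨e4_2_ok, (List.forall_mem_cons.2 ⟨e4_3_ok, (List.forall_mem_cons.2 ⟨e4_4_ok, (List.forall_mem_cons.2 ⟨e4_5_ok, (List.forall_mem_cons.2 ⟨e4_7_ok, (List.forall_mem_cons.2 ⟨e4_8_ok, (List.forall_mem_cons.2 ⟨e4_9_ok, (fun _ h => absurd h List.not_mem_nil)⟩)⟩)⟩)⟩)⟩)⟩)⟩)⟩)
  · exact (List.forall_mem_cons.2 ⟨e5_1_ok, (List.forall_mem_cons.2 ⟨e5_2_ok, (List.forall_mem_cons.2 ⟨e5_3_ok, (List.forall_mem_cons.2 ⟨e5_4_ok, (List.forall_mem_cons.2 ⟨e5_5_ok, (List.forall_mem_cons.2 ⟨e5_6_ok, (List.forall_mem_cons.2 ⟨e5_7_ok, (List.forall_mem_cons.2 ⟨e5_8_ok, (List.forall_mem_cons.2 ⟨e5_9_ok, (List.forall_mem_cons.2 ⟨e5_10_ok, (fun _ h => absurd h List.not_mem_nil)⟩)⟩)⟩)⟩)⟩)⟩)⟩)⟩)⟩)⟩)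
  · exact (List.forall_mem_cons.2 ⟨e6_1_ok, (List.forall_mem_cons.2 ⟨e6_2_ok, (List.forall_mem_cons.2 ⟨e6_5_ok, (List.forall_mem_cons.2 ⟨e6_6_ok, (List.forall_mem_cons.2 ⟨e6_7_ok, (List.forall_mem_cons.2 ⟨e6_8_ok, (fun _ h => absurd h List.not_mem_nil)⟩)⟩)⟩)⟩)⟩)⟩)
  · exact (List.forall_mem_cons.2 ⟨e7_2_ok, (List.forall_mem_cons.2 ⟨e7_3_ok, (List.forall_mem_cons.2 ⟨e7_4_ok, (List.forall_mem_cons.2 ⟨e7_5_ok, (List.forall_mem_cons.2 ⟨e7_6_ok, (List.forall_mem_cons.2 ⟨e7_7_ok, (List.forall_mem_cons.2 ⟨e7_8_ok, (List.forall_mem_cons.2 ⟨e7_9_ok, (fun _ h => absurd h List.not_mem_nil)⟩)⟩)⟩)⟩)⟩)⟩)⟩)⟩)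
  · exact (List.forall_mem_cons.2 ⟨e8_2_ok, (List.forall_mem_cons.2 ⟨e8_3_ok, (List.forall_mem_cons.2 ⟨e8_4_ok, (List.forall_mem_cons.2 ⟨e8_5_ok, (List.forall_mem_cons.2 ⟨e8_6_ok, (List.forall_mem_cons.2 ⟨e8_7_ok, (List.forall_mem_cons.2 ⟨e8_8_ok, (List.forall_mem_cons.2 ⟨e8_9_ok, (fun _ h => absurd h List.not_mem_nil)⟩)⟩)⟩)⟩)⟩)⟩)⟩)⟩)
  · exact (List.forall_mem_cons.2 ⟨e9_2_ok, (List.forall_mem_cons.2 ⟨e9_3_ok, (List.forall_mem_cons.2 ⟨e9_4_ok, (List.forall_mem_cons.2 ⟨e9_5_ok, (List.forall_mem_cons.2 ⟨e9_7_ok, (List.forall_mem_cons.2 ⟨e9_8_ok, (List.forall_mem_cons.2 ⟨e9_9_ok, (List.forall_mem_cons.2 ⟨e9_10_ok, (fun _ h => absurd h List.not_mem_nil)⟩)⟩)⟩)⟩)⟩)⟩)⟩)⟩)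
  · exact (List.forall_mem_cons.2 ⟨e10_2_ok, (List.forall_mem_cons.2 ⟨e10_5_ok, (List.forall_mem_cons.2 ⟨e10_9_ok, (List.forall_mem_cons.2 ⟨e10_10_ok, (fun _ h => absurd h List.not_mem_nil)⟩)⟩)⟩)⟩)

end CfsgLib.ThIndex.H
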