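import Cfsg.Agent.Lib.OrbitEnum.Cert

/-!
# The table of directions of U (generated)
-/

set_option autoImplicit false
set_option maxRecDepth 100000
set_option linter.style.longLine false

namespace CfsgLib.ThIndex.U

open CfsgLib.OrbitEnum

/-- An entry. -/
def e0_1 : Entry where
  dst := 1
  deg := 72
  mask := 0xffffffffffffffffff
  seeds := [
    22]
  gens := [6, 7, 8, 9, 10]
  tree := [
    0x100360400940c02281803604003e06007c040060100320200600600f40c0158200110200480600e80c01b82004604008c06002c0801781803c03005808010410020818012030046080110100220180440100140600b41001f02003e03007c02004c100098180430400860400801001001802e04005c0400501000a0100470300420800840801101801804002a0600540000382001603002c00005c0c00b80800603000c020010080028100030300040600041000002000003,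
    0x200340c00680803f0100620400cc0801501801001]

/-- An entry. -/
def e1_0 : Entry where
  dst := 0
  deg := 1
  mask := 0x2
  seeds := [
    23]
  gens := [15, 16, 17]
  tree := [
]

/-- An entry. -/
def e1_2 : Entry where
  dst := 2
  deg := 21
  mask := 0x4392203b02003b700
  seeds := [
    36]
  gens := [15, 16, 17]
  tree := [
    0x100520400a00801c01003b00004e0200280800500001d0200200400400001e81000f02001e0000f00801e0080240200120400240000401000801]

/-- An entry. -/
def e1_3 : Entry where
  dst := 3
  deg := 21
  mask := 0x21861d8440de044800
  seeds := [
    46]
  gens := [15, 16, 17]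
  tree := [
    0x1008a0400640801501002602003e0400680800d00001b0200680400d0040190100320000800401000001981003300007e0400fc0400581000b00]

/-- An entry. -/
def e1_4 : Entry where
  dst := 4
  deg := 7
  mask := 0x24000400300000084
  seeds := [
    56]
  gens := [15, 16, 17]
  tree := [
    0x401f01003e00005c0400800801000000202]

/-- An entry. -/
def e1_5 : Entry where
  dst := 5
  deg := 7
  mask := 0x580000000001180008
  seeds := [
    70]
  gens := [15, 16, 17]
  tree := [
    0x402201004400008604004c0800980000302]

/-- An entry. -/
def e1_6 : Entry where
  dst := 6
  deg := 7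
  mask := 0x8000c0000800a00010
  seeds := [
    88]
  gens := [15, 16, 17]
  tree := [
    0x400a80003602002e04005c0400201000400]

/-- An entry. -/
def e1_7 : Entry where
  dst := 7
  deg := 7
  mask := 0x380400400060
  seeds := [
    98]
  gens := [15, 16, 17]
  tree := [
    0x400b00002b02000c0400180400281000500]

/-- An entry. -/
def e1_8 : Entry where
  dst := 8
  deg := 1
  mask := 0x1
  seeds := [
    112]
  gens := [15, 16, 17]
  tree := [
]

/-- An entry. -/
def e2_1 : Entry where
  dst := 1
  deg := 1
  mask := 0x2
  seeds := [
    37]
  gens := [21, 22]
  tree := [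
]

/-- An entry. -/
def e2_2 : Entry where
  dst := 2
  deg := 8
  mask := 0x8604000084040800
  seeds := [
    456]
  gens := [21, 22]
  tree := [
    0x2002c040058000390100720000e80400f80801f00]

/-- An entry. -/
def e2_3 : Entry where
  dst := 3
  deg := 4
  mask := 0x40002000000003000
  seeds := [
    274]
  gens := [21, 22]
  tree := [
    0x200c40400600800c00]

/-- An entry. -/
def e2_9 : Entry where
  dst := 9
  deg := 4
  mask := 0x2020000000000084
  seeds := [
    361, 345]
  gens := [21, 22]
  tree := [
    0x401e80000200]

/-- An entry. -/
def e2_10 : Entry where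
  dst := 10
  deg := 5
  mask := 0x200018040002000000
  seeds := [
    285, 419, 347]
  gens := [21, 22]
  tree := [
    0x401980804500]

/-- An entry. -/
def e2_11 : Entry where
  dst := 11
  deg := 3
  mask := 0x400000000001000008
  seeds := [
    276, 369]
  gens := [21, 22]
  tree := [
    0x800300]

/-- An entry. -/
def e2_13 : Entry where
  dst := 13
  deg := 4
  mask := 0x20000000000800110
  seeds := [
    382, 273, 367]
  gens := [21, 22]
  tree := [
    0x800401]

/-- An entry. -/
def e2_14 : Entry where
  dst := 14
  deg := 3
  mask := 0x80000000060
  seeds := [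
    281, 267]
  gens := [21, 22]
  tree := [
    0x800501]

/-- An entry. -/
def e2_15 : Entry where
  dst := 15
  deg := 4
  mask := 0x40030000000001
  seeds := [
    343, 372, 405]
  gens := [21, 22]
  tree := [
    0x802901]

/-- An entry. -/
def e2_16 : Entry where
  dst := 16
  deg := 8
  mask := 0x190000004018180000
  seeds := [
    459, 466]
  gens := [21, 22]
  tree := [
    0x40130080260000260201000402200804400]

/-- An entry. -/
def e2_17 : Entry where
  dst := 17
  deg := 8
  mask := 0x1b00440404000
  seeds := [
    453, 443]
  gens := [21, 22]
  tree := [
    0x401600003000002c0200580000700800e00]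

/-- An entry. -/
def e2_18 : Entry where
  dst := 18
  deg := 8
  mask := 0x800080003820208000
  seeds := [
    498, 479]
  gens := [21, 22]
  tree := [
    0x401280003700003a0200540400a80002400]

/-- An entry. -/
def e2_19 : Entry where
  dst := 19
  deg := 4
  mask := 0x4000400300000000
  seeds := [
    533]
  gens := [21, 22]
  tree := [
    0x200f80401000802000]

/-- An entry. -/
def e2_20 : Entry where
  dst := 20
  deg := 8
  mask := 0x1900008000030600
  seeds := [
    595]
  gens := [21, 22]
  tree := [
    0x20028040050000100100200000440400480800900]

/-- An entry. -/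
def e3_1 : Entry where
  dst := 1
  deg := 4
  mask := 0x400000080002000002
  seeds := [
    47]
  gens := [26, 27, 83, 154]
  tree := [
    0x200640c00081800102]

/-- An entry. -/
def e3_2 : Entry where
  dst := 2
  deg := 16
  mask := 0x9f04008084070e00
  seeds := [
    275]
  gens := [26, 27, 83, 154]
  tree := [
    0x200ec0801901801a0300340000f00801d01800b0300160000fc0c01f81003f0000720600e40801c80803900]

/-- An entry. -/
def e3_10 : Entry where
  dst := 10
  deg := 12
  mask := 0x22060030000800195
  seeds := [
    170, 163, 268]
  gens := [26, 27, 83, 154]
  tree := [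
    0x802903000e0600200c0140180280000040600080000001800002]

/-- An entry. -/
def e3_11 : Entry where
  dst := 11
  deg := 4
  mask := 0x200000040001000008
  seeds := [
    303]
  gens := [26, 27, 83, 154]
  tree := [
    0x200600c00181800300]

/-- An entry. -/
def e3_14 : Entry where
  dst := 14
  deg := 4
  mask := 0x18000000000060
  seeds := [
    323]
  gens := [26, 27, 83, 154]
  tree := [
    0x200180c00281800500]

/-- An entry. -/
def e3_16 : Entry where
  dst := 16
  deg := 16
  mask := 0x1d4002404318183000
  seeds := [
    460]
  gens := [26, 27, 83, 154]
  tree := [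
    0x2007008021818042030018060030080130100440300880000340c00681000d01001a0000c40c01881003100]

/-- An entry. -/
def e3_17 : Entry where
  dst := 17
  deg := 16
  mask := 0x800081b03c6060c000
  seeds := [
    454]
  gens := [26, 27, 83, 154]
  tree := [
    0x2011c080160180240300480400dc0801101801d03003a04003c0c00781000f00004a0600940801280802500]

/-- An entry. -/
def e4_1 : Entry where
  dst := 1
  deg := 1
  mask := 0x2
  seeds := [
    57]
  gens := [32, 33, 34]
  tree := [
]

/-- An entry. -/
def e4_9 : Entry where
  dst := 9
  deg := 4
  mask := 0x20003000000004
  seeds := [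
    359, 334]
  gens := [32, 33, 34]
  tree := [
    0x401a80002402]

/-- An entry. -/
def e4_10 : Entry where
  dst := 10
  deg := 9
  mask := 0x200601840006040000
  seeds := [
    412, 271]
  gens := [32, 33, 34]
  tree := [
    0x200c00800d01001a0000740400a80002281004500]

/-- An entry. -/
def e4_11 : Entry where
  dst := 11
  deg := 7
  mask := 0x580000000001180008
  seeds := [
    161, 398]
  gens := [32, 33, 34]
  tree := [
    0x804602008c00004c0802181004301]

/-- An entry. -/
def e4_12 : Entry where
  dst := 12
  deg := 4
  mask := 0xc0000800000001
  seeds := [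
    182, 333]
  gens := [32, 33, 34]
  tree := [
    0x401b81003600]

/-- An entry. -/
def e4_13 : Entry where
  dst := 13
  deg := 12
  mask := 0x27100400300000780
  seeds := [
    390, 396]
  gens := [32, 33, 34]
  tree := [
    0x40048100090000820401040001001003c0200780200f00001701002e01]

/-- An entry. -/
def e4_14 : Entry where
  dst := 14
  deg := 3
  mask := 0x380000000000
  seeds := [
    265]
  gens := [32, 33, 34]
  tree := [
    0x401601002b00]

/-- An entry. -/
def e4_17 : Entry where
  dst := 17
  deg := 16
  mask := 0x1801c0044d8404860
  seeds := [
    301, 429]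
  gens := [32, 33, 34]
  tree := [
    0x40198100330000360400d00801a00000b0200800401000401f81003f01007e0000580800b00801600]

/-- An entry. -/
def e4_18 : Entry where
  dst := 18
  deg := 16
  mask := 0x840802038020a3b010
  seeds := [
    505, 472]
  gens := [32, 33, 34]
  tree := [
    0x400e8100280200760400ec0400781000f01001e0001080802100000c0200180200540800a80801500]

/-- An entry. -/
def e5_1 : Entry where
  dst := 1
  deg := 8
  mask := 0x500010004008080022
  seeds := [
    71]
  gens := [39, 40, 41, 43, 162]
  tree := [
    0x20118080230080340200680200141000082000103]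

/-- An entry. -/
def e5_14 : Entry where
  dst := 14
  deg := 32
  mask := 0x8243ce3b8d06e21b51
  seeds := [
    221, 314]
  gens := [39, 40, 41, 43, 162]
  tree := [
    0x400a81001501004e06009c0801380800b0400440800880c00881801a0400560600b0100160180410200820200b41001681802d00002c0800580c00b0100160000520400a40400202000603000c0400180400002000003]

/-- An entry. -/
def e5_16 : Entry where
  dst := 16
  deg := 32
  mask := 0x2dbc21c432f115e48c
  seeds := [
    244]
  gens := [39, 40, 41, 43, 162]
  tree := [
    0x2000c0c02002004303008a0800f41001e8180420400840600f00c01201800d04001a0600d41001a81801d03003a0400ec0c01d80803b00001e06003c0001281802502004a020094000080180100200200200280c00501000a00]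

/-- An entry. -/
def e6_1 : Entry where
  dst := 1
  deg := 1
  mask := 0x2
  seeds := [
    89]
  gens := [47, 48]
  tree := [
]

/-- An entry. -/
def e6_10 : Entry where
  dst := 10
  deg := 9
  mask := 0x21c00400e000800
  seeds := [
    223, 283]
  gens := [47, 48]
  tree := [
    0x200cc0400580801a0100680200d00000c80801900]

/-- An entry. -/
def e6_11 : Entry where
  dst := 11
  deg := 3
  mask := 0x500000000000080000
  seeds := [
    286]
  gens := [47, 48]
  tree := [
    0x402300804600]

/-- An entry. -/
def e6_13 : Entry where
  dst := 13
  deg := 12
  mask := 0x8240c2020900a01000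
  seeds := [
    387, 381, 394]
  gens := [47, 48]
  tree := [
    0x80360100460200540402080804100002e02005c0001480802900]

/-- An entry. -/
def e6_14 : Entry where
  dst := 14
  deg := 7
  mask := 0x380400400060
  seeds := [
    218, 278]
  gens := [47, 48]
  tree := [
    0x802b01005a0200580400300800600]

/-- An entry. -/
def e6_15 : Entry where
  dst := 15
  deg := 8
  mask := 0x100018000020311
  seeds := [
    239, 235, 376]
  gens := [47, 48]
  tree := [
    0x80280100220200240400400800800]

/-- An entry. -/
def e6_16 : Entry where
  dst := 16
  deg := 16
  mask := 0x2984018400d1144008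
  seeds := [
    424, 431]
  gens := [47, 48]
  tree := [
    0x402000804000003c0000e80401800004501008a000048040070080140100280000700400e00000301]

/-- An entry. -/
def e6_19 : Entry where
  dst := 19
  deg := 12
  mask := 0x4382000302001a400
  seeds := [
    526]
  gens := [47, 48]
  tree := [
    0x201080401e80003b00003a0200400400800000d00006a0200940401280000a01]

/-- An entry. -/
def e6_21 : Entry where
  dst := 21
  deg := 4
  mask := 0x400200000084
  seeds := [
    608]
  gens := [47, 48]
  tree := [
    0x200840401080000201]

/-- An entry. -/
def e7_1 : Entry where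
  dst := 1
  deg := 8
  mask := 0x1bc000000000a
  seeds := [
    99]
  gens := [52, 53, 55, 146]
  tree := [
    0x200ac0001500002c00006000000c0c00081800102]

/-- An entry. -/
def e7_11 : Entry where
  dst := 11
  deg := 32
  mask := 0x7a77e0403b071c0785
  seeds := [
    158, 289]
  gens := [52, 53, 55, 146]
  tree := [
    0x400a0100450100860400800c01b0000460100700400600800c00801800000e0600240800501800a02006a0000dc0001e81803d02007a0000200c0040100080100100000940000101803c0200780200f00000001800002]

/-- An entry. -/
def e7_17 : Entry where
  dst := 17
  deg := 32
  mask := 0x85881e03c4f8e3f870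
  seeds := [
    250]
  gens := [52, 53, 55, 146]
  tree := [
    0x200540801100003f02007e0000700c00e0100320300640400740c00e81001d01003a00005c0800b8080270300680600d00800701800e02001c0200cc080198080330000180600980c01301002601004c00002c0c00581000b00]

/-- An entry. -/
def e8_1 : Entry where
  dst := 1
  deg := 1
  mask := 0x2
  seeds := [
    113]
  gens := [59, 60]
  tree := [
]

/-- An entry. -/
def e8_9 : Entry where
  dst := 9
  deg := 28
  mask := 0x6792243b32003b784
  seeds := [
    354, 122]
  gens := [59, 60]
  tree := [
    0x40188080350000140000940401280003d0000500000f00401380800d01001a0000ec000038080070000200001080401f00000f01001e000104040048000240000400000200400400000200]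

/-- An entry. -/
def e8_10 : Entry where
  dst := 10
  deg := 21
  mask := 0x21861d8440de044800
  seeds := [
    136]
  gens := [59, 60]
  tree := [
    0x1005e0000640002280001a0100340000e80401d0000400000680200700001f80803900001c020038000150000320000600200cc0401980000b00]

/-- An entry. -/
def e8_11 : Entry where
  dst := 11
  deg := 7
  mask := 0x580000000001180008
  seeds := [
    148]
  gens := [59, 60]
  tree := [
    0x400c0080180000880001180400980000300]

/-- An entry. -/
def e8_12 : Entry where
  dst := 12
  deg := 8
  mask := 0x8000c0000800a00011
  seeds := [
    189, 172]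
  gens := [59, 60]
  tree := [
    0x400b80804700006e0000d80401b00000400]

/-- An entry. -/
def e8_14 : Entry where
  dst := 14
  deg := 7
  mask := 0x380400400060
  seeds := [
    208]
  gens := [59, 60]
  tree := [
    0x40030080220000580000ac0401580000500]

/-- An entry. -/
def e9_2 : Entry where
  dst := 2
  deg := 12
  mask := 0x244002440301003008
  seeds := [
    344, 360]
  gens := [65, 66, 67, 170]
  tree := [
    0x401f01000c0200400401140c0188100180300540600a80400181800301]

/-- An entry. -/
def e9_4 : Entry where
  dst := 4
  deg := 4
  mask := 0x400000000002000060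
  seeds := [
    335, 358]
  gens := [65, 66, 67, 170]
  tree := [
    0x400301800502]

/-- An entry. -/
def e9_8 : Entry where
  dst := 8
  deg := 4
  mask := 0x18080000000002
  seeds := [
    123, 355]
  gens := [65, 66, 67, 170]
  tree := [
    0x401981000103]

/-- An entry. -/
def e9_9 : Entry where
  dst := 9
  deg := 3
  mask := 0x20000000000800010
  seeds := [
    362]
  gens := [65, 66, 67, 170]
  tree := [
    0x400b81800402]

/-- An entry. -/
def e9_12 : Entry where
  dst := 12
  deg := 1
  mask := 0x100
  seeds := [
    357]
  gens := [65, 66, 67, 170]
  tree := [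
]

/-- An entry. -/
def e9_13 : Entry where
  dst := 13
  deg := 9
  mask := 0x10000034018000085
  seeds := [
    365, 379]
  gens := [65, 66, 67, 170]
  tree := [
    0x2006c0c0130180400200500400700800e00000003]

/-- An entry. -/
def e9_15 : Entry where
  dst := 15
  deg := 7
  mask := 0x182060000000180000
  seeds := [
    371, 353]
  gens := [65, 66, 67, 170]
  tree := [
    0x801303008806010c0800a01001400]

/-- An entry. -/
def e9_16 : Entry where
  dst := 16
  deg := 16
  mask := 0x8086840038a4248800
  seeds := [
    439, 401]
  gens := [65, 66, 67, 170]
  tree := [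
    0x401d01003f02003e0400480802381801503006e0600900801200802400004606008c0801180802300]

/-- An entry. -/
def e9_18 : Entry where
  dst := 18
  deg := 16
  mask := 0x1901b08440434600
  seeds := [
    523, 511]
  gens := [65, 66, 67, 170]
  tree := [
    0x40050100100200760400f00801e00002c03002c0600580401781002f01005e0000880c01100802200]

/-- An entry. -/
def e10_2 : Entry where
  dst := 2
  deg := 5
  mask := 0x18000003000008
  seeds := [
    346, 284, 418]
  gens := [71, 72]
  tree := [
    0x401980000300]

/-- An entry. -/
def e10_3 : Entry where
  dst := 3
  deg := 3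
  mask := 0x20000000000000101
  seeds := [
    162, 269, 171]
  gens := [71, 72]
  tree := [
]

/-- An entry. -/
def e10_4 : Entry where
  dst := 4
  deg := 3
  mask := 0x80000000060
  seeds := [
    413, 270]
  gens := [71, 72]
  tree := [
    0x800500]

/-- An entry. -/
def e10_6 : Entry where
  dst := 6
  deg := 3
  mask := 0x600000040000000000
  seeds := [
    222, 282]
  gens := [71, 72]
  tree := [
    0x804500]

/-- An entry. -/
def e10_8 : Entry where
  dst := 8
  deg := 1
  mask := 0x2
  seeds := [
    137]
  gens := [71, 72]
  tree := [
]

/-- An entry. -/
def e10_10 : Entry where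
  dst := 10
  deg := 4
  mask := 0x800080000800200000
  seeds := [
    410]
  gens := [71, 72]
  tree := [
    0x2011c0000a80801500]

/-- An entry. -/
def e10_13 : Entry where
  dst := 13
  deg := 4
  mask := 0x10000004018000000
  seeds := [
    414]
  gens := [71, 72]
  tree := [
    0x200700000d80801b00]

/-- An entry. -/
def e10_14 : Entry where
  dst := 14
  deg := 4
  mask := 0x3020008000
  seeds := [
    408]
  gens := [71, 72]
  tree := [
    0x2003c0000e80801d00]

/-- An entry. -/
def e10_15 : Entry where
  dst := 15
  deg := 4
  mask := 0x180000000000180000
  seeds := [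
    416]
  gens := [71, 72]
  tree := [
    0x200500000980801300]

/-- An entry. -/
def e10_16 : Entry where
  dst := 16
  deg := 8
  mask := 0x8604000084040800
  seeds := [
    433]
  gens := [71, 72]
  tree := [
    0x200fc0401f8000320000340200680000f80801f00]

/-- An entry. -/
def e10_17 : Entry where
  dst := 17
  deg := 8
  mask := 0x44002400300003000
  seeds := [
    427, 448]
  gens := [71, 72]
  tree := [
    0x401080000d0000400200800000600800c00]

/-- An entry. -/
def e10_18 : Entry where
  dst := 18
  deg := 8
  mask := 0x1b00440404000
  seeds := [
    516, 490]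
  gens := [71, 72]
  tree := [
    0x401100802200003c0000b40000700800e00]

/-- An entry. -/
def e10_19 : Entry where
  dst := 19
  deg := 8
  mask := 0x2020030000800094
  seeds := [
    549, 547, 554, 553]
  gens := [71, 72]
  tree := [
    0x1007a0000a00000b80000200]

/-- An entry. -/
def e10_20 : Entry where
  dst := 20
  deg := 8
  mask := 0x1900008000030600
  seeds := [
    605]
  gens := [71, 72]
  tree := [
    0x200ec0401d8000270000120200240000800801000]

/-- An entry. -/
def e10_21 : Entry where
  dst := 21
  deg := 1
  mask := 0x40000000000000
  seeds := [
    635]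
  gens := [71, 72]
  tree := [
]

/-- An entry. -/
def e11_2 : Entry where
  dst := 2
  deg := 9
  mask := 0x21c00400e000800
  seeds := [
    277, 368]
  gens := [77, 78]
  tree := [
    0x200c80000d00801b0000720200e40001a00003300]

/-- An entry. -/
def e11_3 : Entry where
  dst := 3
  deg := 3
  mask := 0x2020000001000
  seeds := [
    302]
  gens := [77, 78]
  tree := [
    0x400600002900]

/-- An entry. -/
def e11_4 : Entry where
  dst := 4
  deg := 7
  mask := 0x380400400060
  seeds := [
    160, 399]
  gens := [77, 78]
  tree := [
    0x80160000580200b40401680000600]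

/-- An entry. -/
def e11_6 : Entry where
  dst := 6
  deg := 3
  mask := 0x500000000000080000
  seeds := [
    287]
  gens := [77, 78]
  tree := [
    0x402200804400]

/-- An entry. -/
def e11_7 : Entry where
  dst := 7
  deg := 4
  mask := 0x24000000100000001
  seeds := [
    159, 288]
  gens := [77, 78]
  tree := [
    0x401f00803e00]

/-- An entry. -/
def e11_8 : Entry where
  dst := 8
  deg := 1
  mask := 0x2
  seeds := [
    149]
  gens := [77, 78]
  tree := [
]

/-- An entry. -/
def e11_13 : Entry where
  dst := 13
  deg := 12
  mask := 0x2184018400d0044000
  seeds := [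
    421]
  gens := [77, 78]
  tree := [
    0x200c00002000001e01003c0000e80001f80804500003e02007c0001500802a00]

/-- An entry. -/
def e11_15 : Entry where
  dst := 15
  deg := 4
  mask := 0x80000000001100008
  seeds := [
    241]
  gens := [77, 78]
  tree := [
    0x200500000180800300]

/-- An entry. -/
def e11_17 : Entry where
  dst := 17
  deg := 16
  mask := 0x4382040322001a484
  seeds := [
    304, 444]
  gens := [77, 78]
  tree := [
    0x401280004200001e02003c0001e00003b01007a0000400400800002100006a0200d40000100800200]

/-- An entry. -/
def e11_19 : Entry where
  dst := 19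
  deg := 12
  mask := 0x8001c0018800a20300
  seeds := [
    543, 550]
  gens := [77, 78]
  tree := [
    0x401b80002700001202008c0001b0000380100700000540400a80002800]

/-- An entry. -/
def e11_21 : Entry where
  dst := 21
  deg := 1
  mask := 0x10
  seeds := [
    623]
  gens := [77, 78]
  tree := [
]

/-- An entry. -/
def e12_4 : Entry where
  dst := 4
  deg := 28
  mask := 0x54383078762849a4c4
  seeds := [
    183, 332]
  gens := [89, 90, 93]
  tree := [
    0x40068080460200840000ec0801300000a02001400004c0800980002b02005a0400d00001080802502004a0200940000b00002c0200580200b00001701002e00000c0400180400300000200]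

/-- An entry. -/
def e12_8 : Entry where
  dst := 8
  deg := 8
  mask := 0x20c000006000822
  seeds := [
    173, 188]
  gens := [89, 90, 93]
  tree := [
    0x401900001a0100660200e40801c80000102]

/-- An entry. -/
def e12_9 : Entry where
  dst := 9
  deg := 7
  mask := 0x100018000020301
  seeds := [
    356]
  gens := [89, 90, 93]
  tree := [
    0x40138000090100500200e00801c00000002]

/-- An entry. -/
def e12_12 : Entry where
  dst := 12
  deg := 1
  mask := 0x10
  seeds := [
    190]
  gens := [89, 90, 93]
  tree := [
]

/-- An entry. -/
def e12_13 : Entry where
  dst := 13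
  deg := 21
  mask := 0xa3c4c18409d0a44000
  seeds := [
    198]
  gens := [89, 90, 93]
  tree := [
    0x1002a0000bc0801500003e02007c0000d80801b00003002006000007c0800f8000450100820000700800e00001e01003c0000380800700800e00]

/-- An entry. -/
def e12_15 : Entry where
  dst := 15
  deg := 7
  mask := 0x80002020001101008
  seeds := [
    224]
  gens := [89, 90, 93]
  tree := [
    0x401880002900002802010c0802180000300]

/-- An entry. -/
def e13_2 : Entry where
  dst := 2
  deg := 4
  mask := 0x22020000000000001
  seeds := [
    272, 383, 366]
  gens := [102, 103]
  tree := [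
    0x803501]

/-- An entry. -/
def e13_4 : Entry where
  dst := 4
  deg := 4
  mask := 0x30000800010
  seeds := [
    391, 397]
  gens := [102, 103]
  tree := [
    0x401480000400]

/-- An entry. -/
def e13_6 : Entry where
  dst := 6
  deg := 4
  mask := 0x40000000000184
  seeds := [
    380, 395, 386]
  gens := [102, 103]
  tree := [
    0x800201]

/-- An entry. -/
def e13_9 : Entry where
  dst := 9
  deg := 3
  mask := 0x400000000001000008
  seeds := [
    378, 364]
  gens := [102, 103]
  tree := [
    0x800301]

/-- An entry. -/
def e13_10 : Entry where
  dst := 10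
  deg := 4
  mask := 0x1800040004000
  seeds := [
    415]
  gens := [102, 103]
  tree := [
    0x200380400f00801e00]

/-- An entry. -/
def e13_11 : Entry where
  dst := 11
  deg := 4
  mask := 0x300400400000
  seeds := [
    420]
  gens := [102, 103]
  tree := [
    0x200580401100802200]

/-- An entry. -/
def e13_12 : Entry where
  dst := 12
  deg := 1
  mask := 0x2
  seeds := [
    199]
  gens := [102, 103]
  tree := [
]

/-- An entry. -/
def e13_13 : Entry where
  dst := 13
  deg := 5
  mask := 0x200000040002000060
  seeds := [
    389, 392, 388]
  gens := [102, 103]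
  tree := [
    0x402280800500]

/-- An entry. -/
def e13_15 : Entry where
  dst := 15
  deg := 3
  mask := 0x18080000000000
  seeds := [
    384, 374]
  gens := [102, 103]
  tree := [
    0x803400]

/-- An entry. -/
def e13_16 : Entry where
  dst := 16
  deg := 8
  mask := 0x44002400300003000
  seeds := [
    471, 464]
  gens := [102, 103]
  tree := [
    0x401f00000c00005c0200b80000680800d00]

/-- An entry. -/
def e13_17 : Entry where
  dst := 17
  deg := 8
  mask := 0x8604000084040800
  seeds := [
    451]
  gens := [102, 103]
  tree := [
    0x200c80401900003f01007e0000480401c80803900]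

/-- An entry. -/
def e13_18 : Entry where
  dst := 18
  deg := 8
  mask := 0x190000004018180000
  seeds := [
    509, 521]
  gens := [102, 103]
  tree := [
    0x40130000440000800201000002180804300]

/-- An entry. -/
def e13_19 : Entry where
  dst := 19
  deg := 8
  mask := 0x1900008000030600
  seeds := [
    569]
  gens := [102, 103]
  tree := [
    0x200240400480000a0100140000ec0400880801100]

/-- An entry. -/
def e13_20 : Entry where
  dst := 20
  deg := 8
  mask := 0x800080003820208000
  seeds := [
    591, 581]
  gens := [102, 103]
  tree := [
    0x400a80801d01008e02011c0000780800f00]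

/-- An entry. -/
def e14_2 : Entry where
  dst := 2
  deg := 9
  mask := 0x580001840001180000
  seeds := [
    280, 266]
  gens := [107, 108]
  tree := [
    0x20050040098080460100600200c00002200804400]

/-- An entry. -/
def e14_3 : Entry where
  dst := 3
  deg := 3
  mask := 0xc0000800000000
  seeds := [
    262]
  gens := [107, 108]
  tree := [
    0x401b80803700]

/-- An entry. -/
def e14_4 : Entry where
  dst := 4
  deg := 3
  mask := 0x380000000000
  seeds := [
    264]
  gens := [107, 108]
  tree := [
    0x401600802c00]

/-- An entry. -/
def e14_5 : Entry where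
  dst := 5
  deg := 4
  mask := 0x20003000000004
  seeds := [
    220, 315]
  gens := [107, 108]
  tree := [
    0x401a80002401]

/-- An entry. -/
def e14_6 : Entry where
  dst := 6
  deg := 7
  mask := 0x200600000006040008
  seeds := [
    219, 279]
  gens := [107, 108]
  tree := [
    0x801a0100240201140401d00803a00]

/-- An entry. -/
def e14_8 : Entry where
  dst := 8
  deg := 1
  mask := 0x2
  seeds := [
    209]
  gens := [107, 108]
  tree := [
]

/-- An entry. -/
def e14_10 : Entry where
  dst := 10
  deg := 12
  mask := 0x4080203802003b000
  seeds := [
    409]
  gens := [107, 108]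
  tree := [
    0x2009c0401380003b00001e020074000080080100000220200a40401880803100]

/-- An entry. -/
def e14_14 : Entry where
  dst := 14
  deg := 4
  mask := 0x800000000000a00010
  seeds := [
    242]
  gens := [107, 108]
  tree := [
    0x200540002380800401]

/-- An entry. -/
def e14_18 : Entry where
  dst := 18
  deg := 16
  mask := 0x1801c0044d8404860
  seeds := [
    506, 496]
  gens := [107, 108]
  tree := [
    0x401900803200007e0000780400700001f01003e000058000058080340100440200980401300000501]

/-- An entry. -/
def e14_19 : Entry where
  dst := 19
  deg := 12
  mask := 0x27100400300000780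
  seeds := [
    545, 537]
  gens := [107, 108]
  tree := [
    0x40048080210100140200f4040100080410100780200f00001f00803e00]

/-- An entry. -/
def e14_21 : Entry where
  dst := 21
  deg := 1
  mask := 0x1
  seeds := [
    632]
  gens := [107, 108]
  tree := [
]

/-- An entry. -/
def e15_2 : Entry where
  dst := 2
  deg := 12
  mask := 0x240e0403b00000080
  seeds := [
    373, 404, 342]
  gens := [115, 116]
  tree := [
    0x802100007c0200d4000208080410000480200dc0401b80002e01]

/-- An entry. -/
def e15_6 : Entry where
  dst := 6
  deg := 8
  mask := 0x3100000000000705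
  seeds := [
    234, 238, 377]
  gens := [115, 116]
  tree := [
    0x80090000780200f40401e80003801]

/-- An entry. -/
def e15_9 : Entry where
  dst := 9
  deg := 7
  mask := 0x580000000001180008
  seeds := [
    352, 370]
  gens := [115, 116]
  tree := [
    0x80140000880201180402300004301]

/-- An entry. -/
def e15_10 : Entry where
  dst := 10
  deg := 12
  mask := 0x1801c0040d8004800
  seeds := [
    417]
  gens := [115, 116]
  tree := [
    0x2007c0001300801c0000640200d00401a0000330100660000fc0402000804000]

/-- An entry. -/
def e15_11 : Entry where
  dst := 11
  deg := 4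
  mask := 0x400400060
  seeds := [
    240]
  gens := [115, 116]
  tree := [
    0x200580001100800501]

/-- An entry. -/
def e15_12 : Entry where
  dst := 12
  deg := 1
  mask := 0x2
  seeds := [
    225]
  gens := [115, 116]
  tree := [
]

/-- An entry. -/
def e15_13 : Entry where
  dst := 13
  deg := 9
  mask := 0x200601840006040000
  seeds := [
    375, 385]
  gens := [115, 116]
  tree := [
    0x200680001d00802a00008a0201140001780803901]

/-- An entry. -/
def e15_15 : Entry where
  dst := 15
  deg := 3
  mask := 0x380000000000
  seeds := [
    406]
  gens := [115, 116]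
  tree := [
    0x401600802c00]

/-- An entry. -/
def e15_20 : Entry where
  dst := 20
  deg := 12
  mask := 0x4080203802003b000
  seeds := [
    572]
  gens := [115, 116]
  tree := [
    0x200c4040068000290000500200ec0401d80002700002002003c0400780000c01]

/-- An entry. -/
def e15_22 : Entry where
  dst := 22
  deg := 4
  mask := 0x800000000000a00010
  seeds := [
    636]
  gens := [115, 116]
  tree := [
    0x200540002380800401]

/-- An entry. -/
def e16_2 : Entry where
  dst := 2
  deg := 6
  mask := 0x401804014000000
  seeds := [
    458, 467]
  gens := [124, 169]
  tree := [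
    0x1004c0000e80401780801a00]

/-- An entry. -/
def e16_3 : Entry where
  dst := 3
  deg := 3
  mask := 0x100000000000100008
  seeds := [
    461]
  gens := [124, 169]
  tree := [
    0x400a00804400]

/-- An entry. -/
def e16_5 : Entry where
  dst := 5
  deg := 1
  mask := 0x2
  seeds := [
    245]
  gens := [124, 169]
  tree := [
]

/-- An entry. -/
def e16_6 : Entry where
  dst := 6
  deg := 4
  mask := 0x300000000060
  seeds := [
    430, 425]
  gens := [124, 169]
  tree := [
    0x400280002d01]

/-- An entry. -/
def e16_9 : Entry where
  dst := 9
  deg := 4
  mask := 0x20008000010001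
  seeds := [
    400, 438]
  gens := [124, 169]
  tree := [
    0x400800801000]

/-- An entry. -/
def e16_10 : Entry where
  dst := 10
  deg := 6
  mask := 0x10218000008040000
  seeds := [
    432]
  gens := [124, 169]
  tree := [
    0x803901007200006c0402000804000]

/-- An entry. -/
def e16_13 : Entry where
  dst := 13
  deg := 6
  mask := 0x804040000200200004
  seeds := [
    465, 470]
  gens := [124, 169]
  tree := [
    0x1008e0200840400a80003e00]

/-- An entry. -/
def e16_16 : Entry where
  dst := 16
  deg := 6
  mask := 0x40100030000001400
  seeds := [
    434]
  gens := [124, 169]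
  tree := [
    0x80380100700000300402100804200]

/-- An entry. -/
def e16_17 : Entry where
  dst := 17
  deg := 10
  mask := 0x1082003800802210
  seeds := [
    437, 462, 468, 402]
  gens := [124, 169]
  tree := [
    0x401880003c0100080000900400480002301]

/-- An entry. -/
def e16_18 : Entry where
  dst := 18
  deg := 10
  mask := 0x688000000043084800
  seeds := [
    500, 485, 488, 513]
  gens := [124, 169]
  tree := [
    0x400980801e01001602010c0000700003f00]

/-- An entry. -/
def e16_19 : Entry where
  dst := 19
  deg := 6
  mask := 0x40c0480400000
  seeds := [
    566, 564]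
  gens := [124, 169]
  tree := [
    0x1004402007c0400f80001600]

/-- An entry. -/
def e16_20 : Entry where
  dst := 20
  deg := 9
  mask := 0x22800400120028100
  seeds := [
    585, 582, 578]
  gens := [124, 169]
  tree := [
    0x401000801d0000220200b80001e80803b00]

/-- An entry. -/
def e16_22 : Entry where
  dst := 22
  deg := 1
  mask := 0x80
  seeds := [
    646]
  gens := [124, 169]
  tree := [
]

/-- An entry. -/
def e17_2 : Entry where
  dst := 2
  deg := 6
  mask := 0x208000000042004800
  seeds := [
    452, 442]
  gens := [127, 148]
  tree := [
    0x1003c0001140400580800b00]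

/-- An entry. -/
def e17_3 : Entry where
  dst := 3
  deg := 3
  mask := 0x80400400000
  seeds := [
    455]
  gens := [127, 148]
  tree := [
    0x401100801600]

/-- An entry. -/
def e17_4 : Entry where
  dst := 4
  deg := 4
  mask := 0x480000000001080000
  seeds := [
    428, 300]
  gens := [127, 148]
  tree := [
    0x400980801300]

/-- An entry. -/
def e17_7 : Entry where
  dst := 7
  deg := 1
  mask := 0x2
  seeds := [
    251]
  gens := [127, 148]
  tree := [
]

/-- An entry. -/
def e17_10 : Entry where
  dst := 10
  deg := 6
  mask := 0x22000400120008000
  seeds := [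
    449, 426]
  gens := [127, 148]
  tree := [
    0x100400200800000780800f00]

/-- An entry. -/
def e17_11 : Entry where
  dst := 11
  deg := 4
  mask := 0x800000000020180
  seeds := [
    305, 445]
  gens := [127, 148]
  tree := [
    0x400880803b00]

/-- An entry. -/
def e17_13 : Entry where
  dst := 13
  deg := 6
  mask := 0x10218000008040000
  seeds := [
    450]
  gens := [127, 148]
  tree := [
    0x803400002400006c0402000804000]

/-- An entry. -/
def e17_16 : Entry where
  dst := 16
  deg := 10
  mask := 0x1082003800802210
  seeds := [
    463, 469, 436, 403]
  gens := [127, 148]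
  tree := [
    0x400680803c01002e0200c40000480000400]

/-- An entry. -/
def e17_17 : Entry where
  dst := 17
  deg := 10
  mask := 0x401b04014000060
  seeds := [
    440, 446, 441, 422]
  gens := [127, 148]
  tree := [
    0x400e00803a00000c0200980001800800500]

/-- An entry. -/
def e17_18 : Entry where
  dst := 18
  deg := 10
  mask := 0x804060008200210005
  seeds := [
    503, 493, 495, 487]
  gens := [127, 148]
  tree := [
    0x40238080100100420200540001380003e00]

/-- An entry. -/
def e17_19 : Entry where
  dst := 19
  deg := 6
  mask := 0x100004040080100008
  seeds := [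
    561, 563]
  gens := [127, 148]
  tree := [
    0x1003e0200c80000a00801400]

/-- An entry. -/
def e17_20 : Entry where
  dst := 20
  deg := 6
  mask := 0x40100030000001400
  seeds := [
    597]
  gens := [127, 148]
  tree := [
    0x800a0000520001080400600800c00]

/-- An entry. -/
def e18_2 : Entry where
  dst := 2
  deg := 6
  mask := 0xc8000810010
  seeds := [
    478, 499]
  gens := [238, 241]
  tree := [
    0x1002000005c0401580800400]

/-- An entry. -/
def e18_4 : Entry where
  dst := 4
  deg := 4
  mask := 0x40000000400000a
  seeds := [
    473, 504]
  gens := [238, 241]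
  tree := [
    0x400d00000101]

/-- An entry. -/
def e18_9 : Entry where
  dst := 9
  deg := 4
  mask := 0x3200000002000
  seeds := [
    522, 510]
  gens := [238, 241]
  tree := [
    0x400680803100]

/-- An entry. -/
def e18_10 : Entry where
  dst := 10
  deg := 6
  mask := 0x28100000000000d00
  seeds := [
    517, 491]
  gens := [238, 241]
  tree := [
    0x1007e0200e00000580000801]

/-- An entry. -/
def e18_13 : Entry where
  dst := 13
  deg := 6
  mask := 0x900000900000300000
  seeds := [
    508, 520]
  gens := [238, 241]
  tree := [
    0x1008e0001100401780801400]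

/-- An entry. -/
def e18_14 : Entry where
  dst := 14
  deg := 4
  mask := 0x2018000000000080
  seeds := [
    497, 507]
  gens := [238, 241]
  tree := [
    0x401a00803300]

/-- An entry. -/
def e18_16 : Entry where
  dst := 16
  deg := 10
  mask := 0x1064000080000265
  seeds := [
    484, 512, 489, 501]
  gens := [238, 241]
  tree := [
    0x400f80000601006c0200140000480800900]

/-- An entry. -/
def e18_17 : Entry where
  dst := 17
  deg := 10
  mask := 0x600a00030003060000
  seeds := [
    486, 494, 492, 502]
  gens := [238, 241]
  tree := [
    0x40148080390000760200a00000c80801100]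

/-- An entry. -/
def e18_18 : Entry where
  dst := 18
  deg := 10
  mask := 0x4080007e10400000
  seeds := [
    524, 525, 518, 514]
  gens := [238, 241]
  tree := [
    0x401f00801c0100440000840001300002401]

/-- An entry. -/
def e18_19 : Entry where
  dst := 19
  deg := 6
  mask := 0xc0000000020089000
  seeds := [
    534]
  gens := [238, 241]
  tree := [
    0x804300001e0000300402100804200]

/-- An entry. -/
def e18_20 : Entry where
  dst := 20
  deg := 6
  mask := 0x10000400148004000
  seeds := [
    593]
  gens := [238, 241]
  tree := [
    0x802e00003c00006c0402000804000]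

/-- An entry. -/
def e19_2 : Entry where
  dst := 2
  deg := 4
  mask := 0x60000000000005
  seeds := [
    532]
  gens := [265, 270, 279]
  tree := [
    0x200d40800001000001]

/-- An entry. -/
def e19_6 : Entry where
  dst := 6
  deg := 4
  mask := 0xc000000000a
  seeds := [
    527]
  gens := [265, 270, 279]
  tree := [
    0x200a80800081000101]

/-- An entry. -/
def e19_10 : Entry where
  dst := 10
  deg := 8
  mask := 0x22080901003000000
  seeds := [
    555, 546, 552, 548]
  gens := [265, 270, 279]
  tree := [
    0x100820400b00801b81001802]

/-- An entry. -/
def e19_11 : Entry where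
  dst := 11
  deg := 4
  mask := 0x600000002800000000
  seeds := [
    551, 542]
  gens := [265, 270, 279]
  tree := [
    0x402301002302]

/-- An entry. -/
def e19_13 : Entry where
  dst := 13
  deg := 8
  mask := 0x104300000200140400
  seeds := [
    568]
  gens := [265, 270, 279]
  tree := [
    0x200280801c0100140200280201100802200804400]

/-- An entry. -/
def e19_14 : Entry where
  dst := 14
  deg := 4
  mask := 0x1200000000180
  seeds := [
    536, 544]
  gens := [265, 270, 279]
  tree := [
    0x401681000702]

/-- An entry. -/
def e19_16 : Entry where
  dst := 16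
  deg := 8
  mask := 0x50004008088011000
  seeds := [
    565, 567]
  gens := [265, 270, 279]
  tree := [
    0x40138100320200200400400000f81001f00]

/-- An entry. -/
def e19_17 : Entry where
  dst := 17
  deg := 8
  mask := 0x8802004010022800
  seeds := [
    562, 560]
  gens := [265, 270, 279]
  tree := [
    0x400881000b0200760400ec0001f81003f00]

/-- An entry. -/
def e19_18 : Entry where
  dst := 18
  deg := 8
  mask := 0x800018030400600000
  seeds := [
    535]
  gens := [265, 270, 279]
  tree := [
    0x200cc0801a01001502002a02011c0802380804700]

/-- An entry. -/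
def e19_19 : Entry where
  dst := 19
  deg := 8
  mask := 0x6080c070
  seeds := [
    570]
  gens := [265, 270, 279]
  tree := [
    0x2005c0800201001e02003c0200380800700800e00]

/-- An entry. -/
def e19_20 : Entry where
  dst := 20
  deg := 8
  mask := 0x81400400104080200
  seeds := [
    606]
  gens := [265, 270, 279]
  tree := [
    0x2010c080098100090200120200f00801e00803c00]

/-- An entry. -/
def e20_2 : Entry where
  dst := 2
  deg := 8
  mask := 0x84500000204080400
  seeds := [
    594]
  gens := [288, 294, 301]
  tree := [
    0x200840401c01004302008602004c0800980801300]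

/-- An entry. -/
def e20_10 : Entry where
  dst := 10
  deg := 8
  mask := 0x18000420c08010
  seeds := [
    604]
  gens := [288, 294, 301]
  tree := [
    0x200740401981001702002e0200100800200800400]

/-- An entry. -/
def e20_13 : Entry where
  dst := 13
  deg := 8
  mask := 0x22080003800000180
  seeds := [
    590, 580]
  gens := [288, 294, 301]
  tree := [
    0x401181000702006e0400dc0402081004101]

/-- An entry. -/
def e20_15 : Entry where
  dst := 15
  deg := 4
  mask := 0xc000000000a
  seeds := [
    573]
  gens := [288, 294, 301]
  tree := [
    0x200a80800081000101]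

/-- An entry. -/
def e20_16 : Entry where
  dst := 16
  deg := 12
  mask := 0x600061b00003000005
  seeds := [
    579, 583, 584]
  gens := [288, 294, 301]
  tree := [
    0x802d02008c0400d40801601002c0100300400600400001000001]

/-- An entry. -/
def e20_17 : Entry where
  dst := 17
  deg := 8
  mask := 0x10806000088022000
  seeds := [
    596]
  gens := [288, 294, 301]
  tree := [
    0x200340402001003202006402007c0800f80801f00]

/-- An entry. -/
def e20_18 : Entry where
  dst := 18
  deg := 8
  mask := 0x101200400100140200
  seeds := [
    592]
  gens := [288, 294, 301]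
  tree := [
    0x200500401c81002e02005c0200800801000802000]

/-- An entry. -/
def e20_19 : Entry where
  dst := 19
  deg := 8
  mask := 0x800000030040204060
  seeds := [
    607]
  gens := [288, 294, 301]
  tree := [
    0x200380401401000602000c0200140800280800500]

/-- An entry. -/
def e20_20 : Entry where
  dst := 20
  deg := 8
  mask := 0x4800000c010011800
  seeds := [
    598]
  gens := [288, 294, 301]
  tree := [
    0x200700402101002702004e0200400800800801000]

/-- An entry. -/
def e21_6 : Entry where
  dst := 6
  deg := 32
  mask := 0x57cbc03809f609e303
  seeds := [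
    609]
  gens := [307, 308, 310, 313, 315]
  tree := [
    0x200ac0001f81801001003e08007c0c00f81001f01003e00008c1002301804602008c0000741000e81001d0000320000801001000803804007002004c100098180130200260200e41001c8080000400000600041000081800102]

/-- An entry. -/
def e21_10 : Entry where
  dst := 10
  deg := 24
  mask := 0x880033c67609f010c0
  seeds := [
    634]
  gens := [307, 308, 310, 313, 315]
  tree := [
    0x200d41001300804704000e0800d01001a01803402002a08010c1002181002f04005e0200c41000b8200170300280800500c00a0100140100300800600c00c01001800]

/-- An entry. -/
def e21_11 : Entry where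
  dst := 11
  deg := 8
  mask := 0x200400018000060018
  seeds := [
    622]
  gens := [307, 308, 310, 313, 315]
  tree := [
    0x200a0000228000120400240200101000182000302]

/-- An entry. -/
def e21_14 : Entry where
  dst := 14
  deg := 8
  mask := 0x300c000000000c24
  seeds := [
    633]
  gens := [307, 308, 310, 313, 315]
  tree := [
    0x200cc0001e80000a0400140200141000102000202]

/-- An entry. -/
def e22_15 : Entry where
  dst := 15
  deg := 36
  mask := 0xd1b2227bb2d6aa5496
  seeds := [
    637]
  gens := [321, 322, 325, 327, 329]
  tree := [
    0x200f01000881001904008000009c1001381802c0400480400900002382004703008e0200b80400502000a0300140400280400b8200170200080800100c01682002d03005a0400b40401680000704000e04001c000010200020300040400041000081800102]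

/-- An entry. -/
def e22_16 : Entry where
  dst := 16
  deg := 36
  mask := 0x2e4ddd844d2955ab69
  seeds := [
    647]
  gens := [321, 322, 325, 327, 329]
  tree := [
    0x200e8100058100080400840000c81001901803704005e0400bc0001102002203004402010c040090200120300240400480400302000602000a0800140c01182002303004604008c04011800018040030040060000018200030300060400001000001800002]

/-- The table. -/
def tab : List (List Entry) := [
    [e0_1],
    [e1_0, e1_2, e1_3, e1_4, e1_5, e1_6, e1_7, e1_8],
    [e2_1, e2_2, e2_3, e2_9, e2_10, e2_11, e2_13, e2_14, e2_15, e2_16, e2_17, e2_18, e2_19, e2_20],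
    [e3_1, e3_2, e3_10, e3_11, e3_14, e3_16, e3_17],
    [e4_1, e4_9, e4_10, e4_11, e4_12, e4_13, e4_14, e4_17, e4_18],
    [e5_1, e5_14, e5_16],
    [e6_1, e6_10, e6_11, e6_13, e6_14, e6_15, e6_16, e6_19, e6_21],
    [e7_1, e7_11, e7_17],
    [e8_1, e8_9, e8_10, e8_11, e8_12, e8_14],
    [e9_2, e9_4, e9_8, e9_9, e9_12, e9_13, e9_15, e9_16, e9_18],
    [e10_2, e10_3, e10_4, e10_6, e10_8, e10_10, e10_13, e10_14, e10_15, e10_16, e10_17, e10_18, e10_19, e10_20, e10_21],
    [e11_2, e11_3, e11_4, e11_6, e11_7, e11_8, e11_13, e11_15, e11_17, e11_19, e11_21],
    [e12_4, e12_8, e12_9, e12_12, e12_13, e12_15],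
    [e13_2, e13_4, e13_6, e13_9, e13_10, e13_11, e13_12, e13_13, e13_15, e13_16, e13_17, e13_18, e13_19, e13_20],
    [e14_2, e14_3, e14_4, e14_5, e14_6, e14_8, e14_10, e14_14, e14_18, e14_19, e14_21],
    [e15_2, e15_6, e15_9, e15_10, e15_11, e15_12, e15_13, e15_15, e15_20, e15_22],
    [e16_2, e16_3, e16_5, e16_6, e16_9, e16_10, e16_13, e16_16, e16_17, e16_18, e16_19, e16_20, e16_22],
    [e17_2, e17_3, e17_4, e17_7, e17_10, e17_11, e17_13, e17_16, e17_17, e17_18, e17_19, e17_20],
    [e18_2, e18_4, e18_9, e18_10, e18_13, e18_14, e18_16, e18_17, e18_18, e18_19, e18_20],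
    [e19_2, e19_6, e19_10, e19_11, e19_13, e19_14, e19_16, e19_17, e19_18, e19_19, e19_20],
    [e20_2, e20_10, e20_13, e20_15, e20_16, e20_17, e20_18, e20_19, e20_20],
    [e21_6, e21_10, e21_11, e21_14],
    [e22_15, e22_16]]

/-- The vertices of the orbits. -/
def alive : List ℕ := [0, 1, 2, 3, 4, 5, 6, 7, 8, 9, 10, 12, 13, 15, 16, 17, 18, 19, 21, 22, 23, 24, 25]

end CfsgLib.ThIndex.U
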