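import Cfsg.Agent.Lib.ThIndex.USetting
import Cfsg.Agent.Lib.ThIndex.URecs
import Cfsg.Agent.Lib.ThIndex.UTab
import Cfsg.Agent.Lib.ThIndex.UStab

/-!
# Checks of the derivation for U
-/

set_option autoImplicit false
set_option maxRecDepth 100000

namespace CfsgLib.ThIndex.U

open CfsgLib.OrbitEnum

theorem recs_ok : (script.parOk && (List.range 330).all fun n => script.recOk setting twist n) = true := by
  decide +kernel

theorem tab_ok : ((List.range 23).all fun i =>
    rowOk setting.T2.n 23 (rowsOf tab i) &&
    ((tab.getD i []).all fun e =>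
      script.entryOk setting twist 330 (alive.getD i 0) (alive.getD e.dst 0) e) &&
    (let Ls := script.stabLevels 330 (alive.getD i 0) (stabs.getD i [])
     chainOk setting.T1 [] Ls && Nat.beq (sizes.getD i 0 * chainSize Ls) setting.size)) = true := by
  decide +kernel

theorem sizes_sum : (sizes.sum = 17472 ∧ alive.getD 0 1 = 0 ∧ sizes.length = 23) := by decide +kernel

end CfsgLib.ThIndex.U
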