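import Cfsg.Agent.Lib.OrbitEnum.Rules

/-!
# Chains and twist of U (generated)
-/

set_option autoImplicit false
set_option maxRecDepth 100000
set_option linter.style.longLine false

namespace CfsgLib.ThIndex.U

open CfsgLib.OrbitEnum

/-- A chain. -/
def chain : List Level := [
    { pt := 1
      gens := [
        [0], [2], [4], [6], [8]]
      rows := [
        (1, 0), (1, 1), (1, 2), (2, 2), (3, 3), (22, 1), (22, 3), (4, 2), (4, 4), (25, 3),
        (23, 2), (23, 4), (21, 1), (21, 4), (46, 2), (46, 4), (24, 1), (24, 4), (20, 0), (20, 4),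
        (6, 3), (45, 1), (45, 3), (45, 4), (56, 0), (56, 4), (47, 3), (120, 4), (19, 3), (7, 2),
        (44, 0), (44, 3), (44, 4), (117, 4), (28, 3), (121, 4), (48, 3), (8, 2), (60, 3),
        (18, 2), (58, 1), (122, 3), (122, 4), (69, 4), (43, 3), (95, 3), (29, 2), (59, 3),
        (9, 2), (57, 1), (71, 2), (17, 1), (17, 3), (72, 0), (68, 4), (85, 3), (94, 3), (42, 2),
        (30, 2), (55, 1), (70, 2), (10, 1), (10, 3), (61, 0), (91, 1), (91, 3), (16, 0), (16, 3),
        (73, 4), (67, 3), (86, 2), (31, 2), (41, 1), (41, 3), (49, 1), (49, 3), (54, 0), (89, 1),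
        (89, 3), (15, 0), (15, 3), (11, 2), (11, 4), (109, 0), (109, 3), (104, 4), (77, 3),
        (84, 2), (84, 4), (66, 2), (87, 1), (32, 1), (32, 3), (40, 0), (40, 3), (93, 4), (53, 0),
        (53, 3), (90, 0), (90, 3), (92, 4), (78, 3), (14, 2), (88, 1), (80, 3), (103, 2),
        (103, 4), (83, 3), (65, 1), (63, 0), (39, 0), (35, 3), (119, 2), (37, 3), (51, 2),
        (79, 3), (105, 2), (105, 4), (82, 3), (97, 2), (123, 2), (106, 2), (118, 3), (111, 2),
        (124, 1)] },
    { pt := 0
      gens := [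
        [0, 2, 0], [2, 4, 2], [6], [8]]
      rows := [
        (0, 0), (0, 1), (2, 1), (3, 2), (25, 2), (4, 1), (4, 3), (46, 1), (46, 3), (20, 3),
        (56, 3), (19, 2), (48, 2), (18, 1), (9, 1)] },
    { pt := 3
      gens := [
        [6], [8]]
      rows := [
        (3, 0), (4, 1)] },
    { pt := 4
      gens := [
        [8]]
      rows := [
        (4, 0)] }]

/-- The rows of the transitive tree. -/
def topRows : List (ℕ × ℕ) := [
    (0, 3), (0, 4), (1, 4), (2, 3), (3, 3), (5, 2), (4, 2), (6, 1), (6, 3), (23, 1), (23, 3),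
    (22, 0), (22, 3), (7, 4), (21, 0), (21, 3), (24, 4), (34, 3), (33, 2), (33, 4), (71, 3),
    (20, 2), (20, 4), (46, 2), (46, 4), (32, 3), (32, 4), (67, 2), (67, 4), (19, 3), (19, 4),
    (62, 1), (62, 3), (62, 4), (45, 4), (10, 3), (68, 1), (68, 3), (68, 4), (35, 4), (18, 3),
    (65, 3), (65, 4), (44, 4), (60, 3), (47, 3), (11, 2), (70, 3), (70, 4), (55, 4), (58, 3),
    (36, 3), (17, 2), (43, 4), (61, 3), (48, 3), (50, 2), (12, 2), (31, 1), (31, 3), (54, 4),
    (69, 3), (37, 3), (27, 2), (16, 1), (42, 3), (51, 2), (49, 2), (63, 1), (13, 1), (13, 3)]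

/-- Generators of the twisted subgroup. -/
def kgens : List (List ℕ) := [
    [0], [2], [4], [6, 4, 6]]

/-- Their images. -/
def kth : List (List ℕ) := [
    [0], [2], [4], [6, 4, 6]]

/-- A chain of the twisted subgroup. -/
def kchain : List Level := [
    { pt := 1
      gens := [
        [0], [1], [2], [3]]
      rows := [
        (1, 0), (1, 1), (1, 2), (1, 3), (2, 2), (2, 3), (3, 3), (4, 2), (22, 1), (23, 1),
        (24, 1), (21, 1), (25, 3), (46, 2), (56, 0), (56, 2), (20, 0), (20, 3), (121, 2),
        (120, 3)] },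
    { pt := 0
      gens := [
        [0, 1, 0], [1, 2, 1], [1, 3, 1]]
      rows := [
        (0, 0), (0, 1), (0, 2), (2, 1), (2, 2), (3, 2), (4, 1)] }]

/-- The loops. -/
def loops : List (List (Option (List ℕ))) := [
    [none, none, none, none, none, none, none],
    [none, some [6, 8], none, some [8, 6], none, some [6, 8], none, some [8, 6]],
    [none, none, none, some [6, 8], none, some [6, 6], none, some [6, 8, 6], none, some [8, 6]],
    [some [6], none, some [8, 6], none, none, none, some [6, 8], none, some [6, 6], none, some [8, 6]]]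

/-- The twist. -/
def twist : Twist where
  pre := [6]
  post := [6]
  kth := kth
  loops := loops

end CfsgLib.ThIndex.U
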