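import Cfsg.Agent.Lib.OrbitEnum.Table

/-!
# Table T1 of U (generated)
-/

set_option autoImplicit false
set_option maxRecDepth 100000
set_option linter.style.longLine false

namespace CfsgLib.ThIndex.U

open CfsgLib.OrbitEnum

/-- Packed images of a letter. -/
def T1c0 : ℕ :=
  0x3eb466b1c14c3cfae4ed21e8dcb2a80c1da7549a34b7f4c58fbbebf0ec0b233c55d52a95cc979b3edb43c854a7bb4722426245bc7d021458389360e5d796e912fcf6c98bb0cb96faab5aba34c9dab650fe0418478e9c3614c95080cc78791edcd9daf86cb96630710bcd172c04100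

/-- Packed images of a letter. -/
def T1c1 : ℕ :=
  0x3eb466b1c14c3cfae4ed21e8dcb2a80c1da7549a34b7f4c58fbbebf0ec0b233c55d52a95cc979b3edb43c854a7bb4722426245bc7d021458389360e5d796e912fcf6c98bb0cb96faab5aba34c9dab650fe0418478e9c3614c95080cc78791edcd9daf86cb96630710bcd172c04100

/-- Packed images of a letter. -/
def T1c2 : ℕ :=
  0x3e7df7ebc79bb8e2f3e9c796fe19ade5d5aee67d1bb662ed93061bd7fbe9db66d3e7f5aac9a54e64d9d3e851952ea3a8d1fac4870a041af61cbb7921e986cdd8b464cdaaf605d62d387542940852a4448d3273c7d52b346cb385c64a150c1c811142c60d1c3c409244c2840608001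

/-- Packed images of a letter. -/
def T1c3 : ℕ :=
  0x3e7df7ebc79bb8e2f3e9c796fe19ade5d5aee67d1bb662ed93061bd7fbe9db66d3e7f5aac9a54e64d9d3e851952ea3a8d1fac4870a041af61cbb7921e986cdd8b464cdaaf605d62d387542940852a4448d3273c7d52b346cb385c64a150c1c811142c60d1c3c409244c2840608001

/-- Packed images of a letter. -/
def T1c4 : ℕ :=
  0x3efbf9e7d78c7a7aefd53676be92ad60e1cfb49a547265ef8716cbf0ee5d8fb630bad5ddd3a99f34fa1c794b99bb410b766245bd061407e307bcaa1c42c3aa13b368c8f2b34b573860a55366a95323488909f40c5b9b38bcc97300821426449487a3473eb02453974143150258180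

/-- Packed images of a letter. -/
def T1c5 : ℕ :=
  0x3efbf9e7d78c7a7aefd53676be92ad60e1cfb49a547265ef8716cbf0ee5d8fb630bad5ddd3a99f34fa1c794b99bb410b766245bd061407e307bcaa1c42c3aa13b368c8f2b34b573860a55366a95323488909f40c5b9b38bcc97300821426449487a3473eb02453974143150258180

/-- Packed images of a letter. -/
def T1c6 : ℕ :=
  0x3efc4b13c7951916f3e9c7953a5b33ee9d3ed5bdb97376c58d1a23c7d4d9d1a6e57b156b10e1be851d5ae64d1a308bd78ed67a850e0417cfe4478ce5d146ed99b46ac59091067ac554aeef74c9fda4c381021bd7ce1d36697152c5cc38244e4d41c3e5ca142d82f0c1c2830808080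

/-- Packed images of a letter. -/
def T1c7 : ℕ :=
  0x3efc4b13c7951916f3e9c7953a5b33ee9d3ed5bdb97376c58d1a23c7d4d9d1a6e57b156b10e1be851d5ae64d1a308bd78ed67a850e0417cfe4478ce5d146ed99b46ac59091067ac554aeef74c9fda4c381021bd7ce1d36697152c5cc38244e4d41c3e5ca142d82f0c1c2830808080

/-- Packed images of a letter. -/
def T1c8 : ℕ :=
  0x3efcf755dbcc392ff3e9c796bd5a2d5ce1bf2eecd9f4f6c58fbddeb1706cb3b6dbe830bd4b994694fa136753a92653d8d1ef43895abbf8162478f2e5d3062d5b3466c9bb8306ce2b587d027508d2254c851295474f2d5c5ccaf3458313282450f203470b184490710542050608080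

/-- Packed images of a letter. -/
def T1c9 : ℕ :=
  0x3efcf755dbcc392ff3e9c796bd5a2d5ce1bf2eecd9f4f6c58fbddeb1706cb3b6dbe830bd4b994694fa136753a92653d8d1ef43895abbf8162478f2e5d3062d5b3466c9bb8306ce2b587d027508d2254c851295474f2d5c5ccaf3458313282450f203470b184490710542050608080

/-- The table. -/
def T1 : Tbl where
  n := 126
  ng := 10
  width := 7
  cols := [
    T1c0, T1c1, T1c2, T1c3, T1c4, T1c5, T1c6, T1c7, T1c8, T1c9]

end CfsgLib.ThIndex.U
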