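import Cfsg.Agent.Lib.OrbitEnum.Table

/-!
# Table T2 of U (generated)
-/

set_option autoImplicit false
set_option maxRecDepth 100000
set_option linter.style.longLine false

namespace CfsgLib.ThIndex.U

open CfsgLib.OrbitEnum

/-- Packed images of a letter. -/
def T2c0 : ℕ :=
  0x2b1a293283609c3e81e8a2048d0946d9ab4662c62f608562d56a94a8226d2256e5973e7e387c04ce4c982e8a3c388e93bb3a7a13164f1c080e182840608080

/-- Packed images of a letter. -/
def T2c1 : ℕ :=
  0x2b1a293283609c3e81e8a2048d0946d9ab4662c62f608562d56a94a8226d2256e5973e7e387c04ce4c982e8a3c388e93bb3a7a13164f1c080e182840608080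

/-- Packed images of a letter. -/
def T2c2 : ℕ :=
  0x8f11d4686edf3f8105e3d8515cb86cdd2a664cd4aa5eb96ab58c18a750d1aa446883a03c7c68e3664d142a18b98264888f2070e8c162840942582840608080

/-- Packed images of a letter. -/
def T2c3 : ℕ :=
  0x8f11d4686edf3f8105e3d8515cb86cdd2a664cd4aa5eb96ab58c18a750d1aa446883a03c7c68e3664d142a18b98264888f2070e8c162840942582840608080

/-- Packed images of a letter. -/
def T2c4 : ℕ :=
  0x8f1a2c388c60a664b9eb84ee5d3c46d9ab368fe12f60f962d56a942977012256e890211678e9b3848c980858a9328688111e3860d3e245080e143170608080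

/-- Packed images of a letter. -/
def T2c5 : ℕ :=
  0x8f1a2c388c60a664b9eb84ee5d3c46d9ab368fe12f60f962d56a942977012256e890211678e9b3848c980858a9328688111e3860d3e245080e143170608080

/-- Packed images of a letter. -/
def T2c6 : ℕ :=
  0x86d94378e7958f20b19b23e9dc398919a357af1831188903e82a5545749531b26b8b2d7708e1d48244173084a15464493f803472f142cd190c1c1030814001

/-- Packed images of a letter. -/
def T2c7 : ℕ :=
  0x86d94378e7958f20b19b23e9dc398919a357af1831188903e82a5545749531b26b8b2d7708e1d48244173084a15464493f803472f142cd190c1c1030814001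

/-- Packed images of a letter. -/
def T2c8 : ℕ :=
  0x451633a72fdebb84f20be81121ae4ad5b2852c592c5ae17b054ad9b44c9dba3491c48a1a74f102250c190c54b1a244cd9c1c3cf8b1881087105c2050200182

/-- Packed images of a letter. -/
def T2c9 : ℕ :=
  0x451633a72fdebb84f20be81121ae4ad5b2852c592c5ae17b054ad9b44c9dba3491c48a1a74f102250c190c54b1a244cd9c1c3cf8b1881087105c2050200182

/-- The table. -/
def T2 : Tbl where
  n := 72
  ng := 10
  width := 7
  cols := [
    T2c0, T2c1, T2c2, T2c3, T2c4, T2c5, T2c6, T2c7, T2c8, T2c9]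

end CfsgLib.ThIndex.U
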